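import Groth.Agent.MultTori.K85.ConstDS
import Groth.Agent.Sga3.H803.EtTors
import Mathlib.GroupTheory.Schreier

/-!
# Constant groups are groups of multiplicative type, isotrivial when the order is invertible

* `Lam C N`: the group of characters `Hom(C, ZMod N)`, in `Type`;
* `nonempty_iso`: the base change of the constant group `C` to `S'` is `D_{S'}(Lam C N)` as soon as `S'` has a root of
  unity of order `N`, `C ^ N = 1`;
* `isotrivial`: over `Spec A` with `N` invertible in `A`;
* `split_field`: over a field with a primitive root of unity.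
-/

set_option autoImplicit false

universe u v w

open CategoryTheory MonoidalCategory CartesianMonoidalCategory MonObj GrpObj AlgebraicGeometry Limits Opposite

namespace K85.ConstMT

open TwC K85.ConstGrp K85.ConstDS Groth.Agent.Sga3.H518.TorsSplit

section char

theorem hasEnough (N : ℕ) [NeZero N] : HasEnoughRootsOfUnity (Multiplicative (ZMod N)) N where
  prim := by
    refine ⟨Multiplicative.ofAdd 1, ?_, fun l hl => ?_⟩
    · rw [← ofAdd_nsmul, nsmul_eq_mul, _root_.mul_one, ZMod.natCast_self, ofAdd_zero]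
    · rw [← ofAdd_nsmul, nsmul_eq_mul, _root_.mul_one, ofAdd_eq_one] at hl
      exact (ZMod.natCast_eq_zero_iff _ _).1 hl
  cyc := by
    have h1 : IsCyclic (Multiplicative (ZMod N))ˣ :=
      isCyclic_of_surjective (toUnits (G := Multiplicative (ZMod N))) (toUnits (G := Multiplicative (ZMod N))).surjective
    infer_instance

theorem exists_char {C : Type*} [CommGroup C] [Finite C] (N : ℕ) [NeZero N] (hN : ∀ x : C, x ^ N = 1) (c : C)
    (hc : c ≠ 1) : ∃ φ : C →* Multiplicative (ZMod N), φ c ≠ 1 := by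
  have h0 := hasEnough N
  have h1 : Monoid.exponent C ∣ N := Monoid.exponent_dvd_of_forall_pow_eq_one hN
  have : NeZero (Monoid.exponent C) := ⟨Monoid.exponent_ne_zero_of_finite⟩
  have h2 : HasEnoughRootsOfUnity (Multiplicative (ZMod N)) (Monoid.exponent C) :=
    HasEnoughRootsOfUnity.of_dvd _ h1
  obtain ⟨φ, hφ⟩ := CommGroup.exists_apply_ne_one_of_hasEnoughRootsOfUnity C (Multiplicative (ZMod N)) hc
  refine ⟨(Units.coeHom _).comp φ, fun h => hφ (Units.ext h)⟩

variable (C : Type v) [CommGroup C] [Finite C] (N : ℕ)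

/-- The characters of `C` with values in `ZMod N`, in `Type`. -/
def DC : Type := Shrink.{0} C →* Multiplicative (ZMod N)

noncomputable instance commGroup_DC : CommGroup (DC C N) :=
  inferInstanceAs (CommGroup (Shrink.{0} C →* Multiplicative (ZMod N)))

/-- The characters of `C` with values in `ZMod N`, additive. -/
abbrev Lam : Type := Additive (DC C N)

instance finite_DC [NeZero N] : Finite (DC C N) := by
  have : Finite (Shrink.{0} C) := Finite.of_equiv _ (equivShrink.{0} C)
  have : Finite (Shrink.{0} C →* Multiplicative (ZMod N)) :=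
    Finite.of_injective (fun (φ : Shrink.{0} C →* Multiplicative (ZMod N)) => (φ : Shrink.{0} C → _))
      DFunLike.coe_injective
  exact this

end char

section pairing

variable {R : Type*} [CommRing R] (N : ℕ) (ζ : Rˣ) (hζ : ζ ^ N = 1)

/-- the powers of a root of unity -/
noncomputable def zp : Multiplicative (ZMod N) →* Rˣ where
  toFun k := Additive.toMul (expHom ζ hζ k.toAdd)
  map_one' := by simp
  map_mul' a b := by simp

theorem zp_natCast (k : ℕ) : zp N ζ hζ (Multiplicative.ofAdd (k : ZMod N)) = ζ ^ k := by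
  change Additive.toMul (expHom ζ hζ (k : ZMod N)) = _
  rw [expHom_natCast]
  rfl

theorem isUnit_zp [NeZero N] (hu : ∀ k : ℕ, ¬ N ∣ k → IsUnit ((ζ : R) ^ k - 1)) (a : Multiplicative (ZMod N))
    (ha : a ≠ 1) : IsUnit ((zp N ζ hζ a : R) - 1) := by
  have h1 : a = Multiplicative.ofAdd (((a.toAdd.val : ℕ) : ZMod N)) := by
    rw [ZMod.natCast_zmod_val, ofAdd_toAdd]
  have h2 : ¬ N ∣ a.toAdd.val := by
    intro h
    apply ha
    rw [h1, (ZMod.natCast_eq_zero_iff _ _).2 h, ofAdd_zero]
  rw [h1, zp_natCast, Units.val_pow_eq_pow_val]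
  exact hu _ h2

variable (C : Type v) [CommGroup C] [Finite C]

/-- evaluation of a character -/
noncomputable def ev (d : DC C N) (c : C) : Multiplicative (ZMod N) :=
  (show Shrink.{0} C →* Multiplicative (ZMod N) from d) (Shrink.mulEquiv.{0} (α := C).symm c)

/-- the pairing -/
noncomputable def pair : DC C N →* C →* Rˣ where
  toFun d :=
    { toFun := fun c => zp N ζ hζ (ev N C d c)
      map_one' := by
        rw [ev, map_one, map_one, map_one]
      map_mul' := fun a b => by
        rw [ev, map_mul, map_mul, map_mul]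
        rfl }
  map_one' := by
    refine MonoidHom.ext fun c => ?_
    change zp N ζ hζ 1 = 1
    rw [map_one]
  map_mul' d d' := by
    refine MonoidHom.ext fun c => ?_
    change zp N ζ hζ (ev N C d c * ev N C d' c) = _
    rw [map_mul]
    rfl

theorem pair_apply (d : DC C N) (c : C) : pair N ζ hζ C d c = zp N ζ hζ (ev N C d c) := rfl

end pairing

section iso

variable {S : Scheme.{u}} {C : Type v} [CommGroup C] [Finite C] [Small.{u} C]

omit [Small.{u} C] in
theorem isUnit_card {R : Type*} [CommRing R] (N : ℕ) (hN : ∀ x : C, x ^ N = 1) (h : IsUnit (N : R)) :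
    IsUnit ((Nat.card C : ℕ) : R) := by
  have h1 : Nat.card C ∣ N ^ Group.rank C := card_dvd_exponent_pow_rank' C hN
  obtain ⟨k, hk⟩ := h1
  have h2 : IsUnit ((N ^ Group.rank C : ℕ) : R) := by
    rw [Nat.cast_pow]
    exact h.pow _
  rw [hk, Nat.cast_mul] at h2
  exact isUnit_of_mul_isUnit_left h2

/-- The constant group over a base with enough roots of unity. -/
theorem nonempty_iso₀ {G : Over S} [GrpObj G] (e : G ≅ const S C) (he : IsConstGrp C G e) (N : ℕ) [NeZero N]
    (hN : ∀ x : C, x ^ N = 1) (hNu : IsUnit (N : Γ(S, ⊤))) (ζ : Γ(S, ⊤)) (hζ : ζ ^ N = 1)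
    (hu : ∀ k : ℕ, ¬ N ∣ k → IsUnit (ζ ^ k - 1)) : Nonempty (Grp.mk G ≅ Grp.mk (Red.DS S (Lam C N))) := by
  have hζu : IsUnit ζ := IsUnit.of_pow_eq_one hζ (NeZero.ne N)
  obtain ⟨z, rfl⟩ := hζu
  have hz : z ^ N = 1 := Units.ext (by rw [Units.val_pow_eq_pow_val, hζ, Units.val_one])
  refine nonempty_grp_iso e he (pair N z hz C) ?_ ?_ (isUnit_card N hN hNu)
  · intro d hd
    have h1 : ∃ c, ev N C d c ≠ 1 := by
      by_contra h
      push Not at h
      apply hd
      refine MonoidHom.ext (M := Shrink.{0} C) (N := Multiplicative (ZMod N)) fun c => ?_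
      have h2 := h (Shrink.mulEquiv c)
      rw [ev, MulEquiv.symm_apply_apply] at h2
      exact h2
    obtain ⟨c, hc⟩ := h1
    refine ⟨c, ?_⟩
    rw [pair_apply]
    exact isUnit_zp N z hz hu _ hc
  · intro c hc
    obtain ⟨φ, hφ⟩ := exists_char (C := C) N hN c hc
    refine ⟨(φ.comp (Shrink.mulEquiv.{0} (α := C)).toMonoidHom : Shrink.{0} C →* Multiplicative (ZMod N)), ?_⟩
    rw [pair_apply]
    apply isUnit_zp N z hz hu
    have h1 : ev N C (show DC C N from φ.comp (Shrink.mulEquiv.{0} (α := C)).toMonoidHom) c = φ c := by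
      unfold ev
      exact congrArg φ (MulEquiv.apply_symm_apply (Shrink.mulEquiv.{0} (α := C)) c)
    exact fun h => hφ (h1.symm.trans h)

/-- The base change of a constant group to a scheme with enough roots of unity. -/
theorem nonempty_iso {S' : Scheme.{u}} (g : S' ⟶ S) {G : Over S} [GrpObj G] (e : G ≅ const S C)
    (he : IsConstGrp C G e) (N : ℕ) [NeZero N] (hN : ∀ x : C, x ^ N = 1) (hNu : IsUnit (N : Γ(S', ⊤)))
    (ζ : Γ(S', ⊤)) (hζ : ζ ^ N = 1) (hu : ∀ k : ℕ, ¬ N ∣ k → IsUnit (ζ ^ k - 1)) :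
    Nonempty (Grp.mk (Red.bc g G) ≅ Grp.mk (Red.DS S' (Lam C N))) :=
  nonempty_iso₀ (bcE e g) (isConstGrp_bc e g he) N hN hNu ζ hζ hu

end iso

section ring

/-- In a ring in which `N` is invertible, a root of the cyclotomic polynomial behaves like a primitive root. -/
theorem isUnit_pow_sub_one {B : Type w} [CommRing B] (N : ℕ) (hN : IsUnit (N : B)) (ζ : B)
    (h : ∀ (K : Type w) [Field K] (φ : B →+* K), IsPrimitiveRoot (φ ζ) N) (k : ℕ) (hk : ¬ N ∣ k) :
    IsUnit (ζ ^ k - 1) := by
  by_contra hu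
  obtain ⟨m, hm, hmem⟩ := exists_max_ideal_of_mem_nonunits hu
  let := Ideal.Quotient.field m
  have h1 := h (B ⧸ m) (Ideal.Quotient.mk m)
  have h2 : (Ideal.Quotient.mk m ζ) ^ k = 1 := by
    rw [← map_pow, ← sub_eq_zero, ← map_one (Ideal.Quotient.mk m), ← map_sub]
    exact Ideal.Quotient.eq_zero_iff_mem.2 hmem
  exact hk (h1.dvd_of_pow_eq_one k h2)

end ring

section isotrivial

variable {A : Type u} [CommRing A] {C : Type v} [CommGroup C] [Finite C] [Small.{u} C]

/-- **Isotriviality of the constant group of order invertible on the base.** -/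
theorem isotrivial {G : Over (Spec (CommRingCat.of A))} [GrpObj G] (e : G ≅ const (Spec (CommRingCat.of A)) C)
    (he : IsConstGrp C G e) (N : ℕ) [NeZero N] (hN : ∀ x : C, x ^ N = 1) (hNu : IsUnit (N : A)) :
    ∃ (Λ : Type) (_ : AddCommGroup Λ), AddGroup.FG Λ ∧
      TwC.Locally (Spec (CommRingCat.of A)) .finiteEtale
        (fun S' g => Nonempty (Grp.mk (Red.bc g G) ≅ Grp.mk (Red.DS S' Λ))) := by
  refine ⟨Lam C N, inferInstance, ?_, ?_⟩
  · have : Finite (Lam C N) := inferInstanceAs (Finite (DC C N))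
    infer_instance
  let B := AdjoinRoot (Polynomial.cyclotomic N A)
  let f : Spec (CommRingCat.of B) ⟶ Spec (CommRingCat.of A) := Spec.map (CommRingCat.ofHom (algebraMap A B))
  have hfin : Module.Finite A B := (Polynomial.cyclotomic.monic N A).finite_adjoinRoot
  have het : Algebra.Etale A B := Groth.Agent.Sga3.H803.EtTors.etale_cyclotomic N A hNu
  have hff : Module.FaithfullyFlat A B := faithfullyFlat N A (Nat.pos_of_ne_zero (NeZero.ne N))
  refine ⟨Spec (CommRingCat.of B), f, ?_, ?_, ?_, fun s' => ⟨⊤, trivial, isClosed_univ, ?_⟩⟩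
  · rw [IsFinite.SpecMap_iff]
    exact RingHom.finite_algebraMap.2 hfin
  · have h1 : (algebraMap A B).Etale := RingHom.etale_algebraMap.2 het
    exact (HasRingHomProperty.Spec_iff (P := @Etale)).2 h1
  · exact ⟨(PrimeSpectrum.comap_surjective_of_faithfullyFlat (A := A) (B := B))⟩
  · let U : (Spec (CommRingCat.of B)).Opens := ⊤
    let r : B →+* Γ(U.toScheme, ⊤) := (((Scheme.ΓSpecIso (CommRingCat.of B)).inv ≫ U.ι.appTop).hom)
    have hNB : IsUnit (N : B) := by
      have := hNu.map (algebraMap A B)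
      rwa [map_natCast] at this
    have hr : AdjoinRoot.root (Polynomial.cyclotomic N A) ^ N = 1 := root_pow N A
    refine nonempty_iso (U.ι ≫ f) e he N hN ?_ (r (AdjoinRoot.root (Polynomial.cyclotomic N A))) ?_ ?_
    · have := hNB.map r
      rwa [map_natCast] at this
    · rw [← map_pow, hr, map_one]
    · intro k hk
      have h2 := isUnit_pow_sub_one N hNB (AdjoinRoot.root (Polynomial.cyclotomic N A))
        (fun K _ φ => isPrimitiveRoot N A hNu φ) k hk
      have h3 := h2.map r
      rwa [map_sub, map_pow, map_one] at h3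

/-- The constant group over a field extension with a primitive root of unity. -/
theorem split_field {S : Scheme.{u}} {G : Over S} [GrpObj G] (e : G ≅ const S C) (he : IsConstGrp C G e)
    (N : ℕ) [NeZero N] (hN : ∀ x : C, x ^ N = 1) (L : Type u) [Field L] (hL : (N : L) ≠ 0) (ζ : L)
    (hζ : IsPrimitiveRoot ζ N) (g : Spec (CommRingCat.of L) ⟶ S) :
    Nonempty (Grp.mk (Red.bc g G) ≅ Grp.mk (Red.DS (Spec (CommRingCat.of L)) (Lam C N))) := by
  let r : L →+* Γ(Spec (CommRingCat.of L), ⊤) := ((Scheme.ΓSpecIso (CommRingCat.of L)).inv.hom)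
  refine nonempty_iso g e he N hN ?_ (r ζ) ?_ ?_
  · have := (IsUnit.mk0 _ hL).map r
    rwa [map_natCast] at this
  · rw [← map_pow, hζ.pow_eq_one, map_one]
  · intro k hk
    have h1 : ζ ^ k - 1 ≠ 0 := fun h => hk (hζ.dvd_of_pow_eq_one k (sub_eq_zero.1 h))
    have h3 := (IsUnit.mk0 _ h1).map r
    rwa [map_sub, map_pow, map_one] at h3

end isotrivial

end K85.ConstMT
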