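import Groth.Agent.MultTori.K85.ConstGrp
import Mathlib.GroupTheory.FiniteAbelian.Duality
import Mathlib.RingTheory.RootsOfUnity.EnoughRootsOfUnity

/-!
# A finite constant group is diagonalisable in the presence of roots of unity

`C` a finite commutative group killed by `N`, `S` a scheme with a section `ζ` of `O_S` such that `ζ ^ N = 1` and
`ζ ^ k - 1` is invertible for `k` not divisible by `N`, the order of `C` being invertible on `S`.  Then the constant
group `C_S` is `D_S(Hom(C, ZMod N))`.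
-/

set_option autoImplicit false

universe u v w

open CategoryTheory MonoidalCategory CartesianMonoidalCategory MonObj GrpObj AlgebraicGeometry Limits Opposite

namespace K85.ConstDS

section ring

variable {R : Type*} [CommRing R] {C D : Type*} [CommGroup C] [CommGroup D] [Fintype C] [Fintype D]

omit [Fintype D] [CommGroup D] in
theorem sum_eq_zero (f : C →* Rˣ) (c₀ : C) (h : IsUnit ((f c₀ : R) - 1)) : ∑ c, (f c : R) = 0 := by
  have h1 : (f c₀ : R) * ∑ c, (f c : R) = ∑ c, (f c : R) := by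
    rw [Finset.mul_sum]
    refine Fintype.sum_equiv (Equiv.mulLeft c₀) _ _ fun c => ?_
    rw [Equiv.coe_mulLeft, map_mul, Units.val_mul]
  have h2 : ((f c₀ : R) - 1) * ∑ c, (f c : R) = 0 := by rw [sub_mul, h1, _root_.one_mul, sub_self]
  exact (h.mul_right_eq_zero).1 h2

omit [Fintype C] in
/-- the idempotent (up to the order of `D`) attached to `c` -/
noncomputable def idem (b : D →* C →* Rˣ) (χ : D →* R) (c : C) : R := ∑ d, χ d * ((b d c)⁻¹ : Rˣ)

omit [Fintype C] in
theorem mul_idem (b : D →* C →* Rˣ) (χ : D →* R) (c : C) (d : D) : χ d * idem b χ c = b d c * idem b χ c := by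
  rw [idem, Finset.mul_sum, Finset.mul_sum]
  refine Fintype.sum_equiv (Equiv.mulLeft d) _ _ fun d' => ?_
  rw [Equiv.coe_mulLeft, map_mul, map_mul, MonoidHom.mul_apply, _root_.mul_inv, Units.val_mul]
  have h : (b d c : R) * ((b d c)⁻¹ : Rˣ) = 1 := Units.mul_inv _
  linear_combination (-(χ d * χ d' * ((b d' c)⁻¹ : Rˣ))) * h

theorem sum_idem (b : D →* C →* Rˣ) (χ : D →* R) (h : ∀ d : D, d ≠ 1 → ∃ c, IsUnit ((b d c : R) - 1)) :
    ∑ c, idem b χ c = (Fintype.card C : R) := by
  unfold idem
  rw [Finset.sum_comm, Fintype.sum_eq_single 1]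
  · simp
  · intro d hd
    rw [← Finset.mul_sum]
    obtain ⟨c₀, hc₀⟩ := h d⁻¹ (by simpa using hd)
    have h2 := sum_eq_zero (b d⁻¹) c₀ hc₀
    simp only [map_inv, MonoidHom.inv_apply] at h2
    rw [h2, mul_zero]

end ring

open TwC K6.ConstRep K6.DualConst Groth.Agent.Sga3B Groth.Agent.Sga3B.DSPts Groth.Agent.Sga3B.RepDescent K85.ConstGrp

section scheme

set_option linter.unusedSectionVars false

variable {S : Scheme.{u}} {C : Type v} [CommGroup C] [Finite C] {D : Type} [CommGroup D] [Finite D]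
  [Small.{u} C]

/-- the ring homomorphism from the global sections of the base -/
noncomputable def st (T : Over S) : Γ(S, ⊤) →+* Γ(T.left, ⊤) := T.hom.appTop.hom

theorem comp_st {T T' : Over S} (f : T' ⟶ T) : f.left.appTop.hom.comp (st T) = st T' := by
  have h : f.left ≫ T.hom = T'.hom := Over.w f
  rw [st, st, ← h, Scheme.Hom.comp_appTop]
  rfl

/-- the pairing with values in an `S`-scheme -/
noncomputable def bT (b : D →* C →* Γ(S, ⊤)ˣ) (T : Over S) : D →* C →* Γ(T.left, ⊤)ˣ :=
  (MonoidHom.compHom (Units.map (st T : Γ(S, ⊤) →* Γ(T.left, ⊤)))).comp b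

theorem bT_apply (b : D →* C →* Γ(S, ⊤)ˣ) (T : Over S) (d : D) (c : C) : (bT b T d c : Γ(T.left, ⊤)) = st T (b d c) :=
  rfl

/-- the character of `D` attached to `c` -/
noncomputable def chr (b : D →* C →* Γ(S, ⊤)ˣ) (c : C) (T : Over S) : Multiplicative (Additive D) →* Γ(T.left, ⊤) :=
  (((st T : Γ(S, ⊤) →* Γ(T.left, ⊤)).comp ((Units.coeHom _).comp (b.flip c)))).comp
    (MulEquiv.multiplicativeAdditive D).toMonoidHom

theorem chr_apply (b : D →* C →* Γ(S, ⊤)ˣ) (c : C) (T : Over S) (d : Multiplicative (Additive D)) :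
    chr b c T d = st T (b (MulEquiv.multiplicativeAdditive D d) c) := rfl

theorem comp_chr (b : D →* C →* Γ(S, ⊤)ˣ) (c : C) {T T' : Over S} (f : T' ⟶ T) :
    (f.left.appTop.hom : Γ(T.left, ⊤) →* Γ(T'.left, ⊤)).comp (chr b c T) = chr b c T' := by
  refine MonoidHom.ext fun d => ?_
  rw [MonoidHom.comp_apply, chr_apply, chr_apply, ← comp_st f]
  rfl

theorem mem_basicOpen_of_sum {X : Scheme.{u}} {I : Type*} [Fintype I] (E : I → Γ(X, ⊤)) (h : IsUnit (∑ i, E i)) (x : X) :
    ∃ i, x ∈ X.basicOpen (E i) := by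
  by_contra hx
  push Not at hx
  have h1 : ∀ i, ¬ IsUnit (X.presheaf.germ ⊤ x trivial (E i)) := fun i hi =>
    hx i ((X.mem_basicOpen (E i) x (TopologicalSpace.Opens.mem_top x)).2 hi)
  have h2 : IsUnit (X.presheaf.germ ⊤ x trivial (∑ i, E i)) := h.map (X.presheaf.germ ⊤ x trivial).hom
  rw [map_sum] at h2
  exact (IsLocalRing.notMem_maximalIdeal.2 h2) (Ideal.sum_mem _ fun i _ => (IsLocalRing.mem_maximalIdeal _).2 (h1 i))

/-- **Representability**: the constant scheme of `C` is `D_S(D)`. -/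
theorem exists_iso (b : D →* C →* Γ(S, ⊤)ˣ) (h₁ : ∀ d : D, d ≠ 1 → ∃ c, IsUnit ((b d c : Γ(S, ⊤)) - 1))
    (h₂ : ∀ c : C, c ≠ 1 → ∃ d, IsUnit ((b d c : Γ(S, ⊤)) - 1)) (hC : IsUnit ((Nat.card C : ℕ) : Γ(S, ⊤))) :
    ∃ φ : const S C ≅ Red.DS S (Additive D), ∀ (c : C) (T : Over S),
      ptT C c T ≫ φ.hom = dsEquiv T (Additive D) (chr b c T) := by
  classical
  have := Fintype.ofFinite C
  have := Fintype.ofFinite D
  obtain ⟨r, hr⟩ := exists_representableBy (I := C) (isEtSheaf_yoneda (Red.DS S (Additive D)))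
    (fun c T => dsEquiv T (Additive D) (chr b c T))
    (fun c T T' f => by
      change f ≫ dsEquiv T (Additive D) (chr b c T) = _
      rw [dsEquiv_naturality]
      exact congrArg _ (comp_chr b c f))
    (fun T y t => by
      let y' : T ⟶ Red.DS S (Additive D) := y
      let χ : D →* Γ(T.left, ⊤) := (dsChar y').comp (MulEquiv.multiplicativeAdditive D).symm.toMonoidHom
      have hχ : ∀ d, ∃ c, IsUnit ((bT b T d c : Γ(T.left, ⊤)) - 1) ∨ d = 1 := by
        intro d
        by_cases hd : d = 1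
        · exact ⟨1, Or.inr hd⟩
        · obtain ⟨c, hc⟩ := h₁ d hd
          refine ⟨c, Or.inl ?_⟩
          have := hc.map (st T)
          rwa [map_sub, map_one] at this
      have hsum : ∑ c, idem (bT b T) χ c = (Fintype.card C : Γ(T.left, ⊤)) := by
        apply sum_idem
        intro d hd
        obtain ⟨c, hc⟩ := hχ d
        exact ⟨c, hc.resolve_right hd⟩
      have hu : IsUnit (∑ c, idem (bT b T) χ c) := by
        rw [hsum]
        have := hC.map (st T)
        rwa [map_natCast, Nat.card_eq_fintype_card] at this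
      obtain ⟨c, hc⟩ := mem_basicOpen_of_sum _ hu t
      let U := T.left.basicOpen (idem (bT b T) χ c)
      refine ⟨U, c, hc, ?_⟩
      change inc T U ≫ y' = dsEquiv _ _ _
      have h3 : y' = dsEquiv T (Additive D) (dsChar y') := (dsEquiv_dsChar y').symm
      rw [h3, dsEquiv_naturality]
      congr 1
      refine MonoidHom.ext fun d => ?_
      rw [MonoidHom.comp_apply, chr_apply]
      have h4 := mul_idem (bT b T) χ c (MulEquiv.multiplicativeAdditive D d)
      have h5 := congrArg (inc T U).left.appTop.hom h4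
      rw [map_mul, map_mul] at h5
      have h6 : IsUnit ((inc T U).left.appTop.hom (idem (bT b T) χ c)) := by
        change IsUnit (U.ι.appTop.hom (idem (bT b T) χ c))
        have h9 : IsUnit (T.left.presheaf.map (homOfLE (le_top : T.left.basicOpen (idem (bT b T) χ c) ≤ ⊤)).op
          (idem (bT b T) χ c)) := RingedSpace.isUnit_res_basicOpen _ (idem (bT b T) χ c)
        rw [Scheme.Opens.ι_appTop]
        have h10 : T.left.presheaf.map (homOfLE (x := U.ι ''ᵁ ⊤) le_top).op =
            T.left.presheaf.map (homOfLE (le_top : U ≤ ⊤)).op ≫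
              T.left.presheaf.map (homOfLE (x := U.ι ''ᵁ ⊤) (y := U) (by simp)).op := by
          rw [← Functor.map_comp]
          rfl
        rw [h10]
        exact h9.map (T.left.presheaf.map (homOfLE (x := U.ι ''ᵁ ⊤) (y := U) (by simp)).op).hom
      have h11 := h6.mul_right_cancel h5
      refine h11.trans ?_
      rw [bT_apply]
      exact RingHom.congr_fun (comp_st (inc T U)) _)
    (fun T i j hT hij => by
      by_contra hne
      obtain ⟨d, hd⟩ := h₂ (i * j⁻¹) (fun h => hne (mul_inv_eq_one.1 h))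
      have h3 := (dsEquiv T (Additive D)).injective hij
      have h4 := DFunLike.congr_fun h3 ((MulEquiv.multiplicativeAdditive D).symm d)
      rw [chr_apply, chr_apply, MulEquiv.apply_symm_apply] at h4
      have h5 : st T ((b d (i * j⁻¹) : Γ(S, ⊤)) - 1) = 0 := by
        rw [map_sub, map_one, map_mul, Units.val_mul, map_mul, h4, ← map_mul, ← Units.val_mul, ← map_mul,
          mul_inv_cancel, map_one, Units.val_one, map_one, sub_self]
      have h6 := hd.map (st T)
      rw [h5] at h6
      have : Nontrivial Γ(T.left, ⊤) := by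
        have : Nonempty (⊤ : T.left.Opens) := hT.map fun t => ⟨t, trivial⟩
        exact T.left.component_nontrivial ⊤
      exact not_isUnit_zero h6)
  refine ⟨⟨r.homEquiv (𝟙 _), r.homEquiv.symm (𝟙 (Red.DS S (Additive D))), ?_, ?_⟩, ?_⟩
  · apply r.homEquiv.injective
    rw [r.homEquiv_comp, Equiv.apply_symm_apply]
    change _ ≫ 𝟙 (Red.DS S (Additive D)) = _
    exact Category.comp_id _
  · have h3 := r.homEquiv_comp (r.homEquiv.symm (𝟙 (Red.DS S (Additive D)))) (𝟙 _)
    rw [Category.comp_id, Equiv.apply_symm_apply] at h3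
    exact h3.symm
  · intro c T
    have h3 := r.homEquiv_comp (ptT C c T) (𝟙 _)
    rw [Category.comp_id, hr] at h3
    exact h3.symm

/-- **The constant group is diagonalisable.** -/
theorem nonempty_grp_iso {G : Over S} [GrpObj G] (e : G ≅ const S C) (he : IsConstGrp C G e)
    (b : D →* C →* Γ(S, ⊤)ˣ) (h₁ : ∀ d : D, d ≠ 1 → ∃ c, IsUnit ((b d c : Γ(S, ⊤)) - 1))
    (h₂ : ∀ c : C, c ≠ 1 → ∃ d, IsUnit ((b d c : Γ(S, ⊤)) - 1)) (hC : IsUnit ((Nat.card C : ℕ) : Γ(S, ⊤))) :
    Nonempty (Grp.mk G ≅ Grp.mk (Red.DS S (Additive D))) := by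
  obtain ⟨φ, hφ⟩ := exists_iso b h₁ h₂ hC
  have h3 : ∀ (c : C) (T : Over S), jT e c T ≫ (e ≪≫ φ).hom = dsEquiv T (Additive D) (chr b c T) := by
    intro c T
    rw [jT, Iso.trans_hom, Category.assoc, Iso.inv_hom_id_assoc, hφ]
  have : IsMonHom (e ≪≫ φ).hom := by
    apply isMonHom_of_jT e (jT_mul e he)
    intro m n T
    rw [h3, h3, h3, ← map_mul]
    congr 1
    refine MonoidHom.ext fun d => ?_
    rw [MonoidHom.mul_apply, chr_apply, chr_apply, chr_apply, ← map_mul, map_mul (b _), Units.val_mul]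
  exact ⟨Grp.mkIso (e ≪≫ φ)⟩

end scheme

end K85.ConstDS
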