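import Groth.Agent.SGA3x.K6.DualConst
import Groth.Agent.SGA3x.K6.ConstAff
import Groth.Prelude.Def_ActBC

/-!
# Constant groups: existence, homomorphisms, products, base change

`G` an `S`-group with `e : G ≅ TwC.const S M`, `TwC.IsConstGrp M G e`; `jT e m T` is the point of index `m`.

* `hom_ext₁`, `hom_ext₂`: morphisms from `G`, `G ⊗ H` are determined on constant points;
* `isMonHom_of_jT`: homomorphy can be checked on constant points;
* `exists_grpObj`: the constant group exists for every `M`;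
* `hm e e' φ`: the homomorphism attached to a homomorphism `φ : M →* N`;
* `isIso_lift`: a product decomposition `M ≃* M₁ × M₂` decomposes the constant groups;
* `isConstGrp_bc`: base change.
-/

set_option autoImplicit false

universe u v w v₁ v₂

open CategoryTheory MonoidalCategory CartesianMonoidalCategory MonObj GrpObj AlgebraicGeometry Limits Opposite

namespace K85.ConstGrp

open TwC K6.ConstRep K6.DualConst Groth.Agent.Sga3B Groth.Agent.Sga3B.DSPts

variable {S : Scheme.{u}} {M : Type v} [Small.{u} M] {N : Type w} [Small.{u} N] {G H : Over S}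
  (e : G ≅ const S M) (e' : H ≅ const S N)

include e in
theorem hom_ext₁ {Z : Over S} {f g : G ⟶ Z} (h : ∀ (m : M) (T : Over S), jT e m T ≫ f = jT e m T ≫ g) : f = g := by
  have h1 : fst G (𝟙_ (Over S)) ≫ f = fst G (𝟙_ (Over S)) ≫ g := by
    apply K6.DualConst.hom_ext e
    intro m
    rw [jj, lift_fst_assoc, lift_fst_assoc, h]
  have h2 : lift (𝟙 G) (toUnit G) ≫ fst G (𝟙_ (Over S)) = 𝟙 G := lift_fst _ _
  rw [← Category.id_comp f, ← Category.id_comp g, ← h2, Category.assoc, Category.assoc, h1]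

include e e' in
theorem hom_ext₂ {Z : Over S} {f g : G ⊗ H ⟶ Z} (h : ∀ (m : M) (n : N) (T : Over S),
    lift (jT e m T) (jT e' n T) ≫ f = lift (jT e m T) (jT e' n T) ≫ g) : f = g := by
  apply K6.DualConst.hom_ext e
  intro m
  apply hom_ext₁ e'
  intro n T
  rw [← Category.assoc, ← Category.assoc, comp_jj, h]

include e e' in
theorem hom_ext₃ {Q : Type*} [Small.{u} Q] {L : Over S} (e'' : L ≅ const S Q) {Z : Over S} {f g : (G ⊗ H) ⊗ L ⟶ Z}
    (h : ∀ (m : M) (n : N) (q : Q) (T : Over S),
    lift (lift (jT e m T) (jT e' n T)) (jT e'' q T) ≫ f = lift (lift (jT e m T) (jT e' n T)) (jT e'' q T) ≫ g) :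
    f = g := by
  rw [← cancel_epi (α_ G H L).inv]
  apply K6.DualConst.hom_ext e
  intro m
  apply hom_ext₂ e' e''
  intro n q T
  have h1 : lift (jT e' n T) (jT e'' q T) ≫ jj e m (H ⊗ L) ≫ (α_ G H L).inv =
      lift (lift (jT e m T) (jT e' n T)) (jT e'' q T) := by
    rw [← Category.assoc, comp_jj, lift_lift_associator_inv]
  simp only [← Category.assoc] at h1 ⊢
  rw [h1, h]

theorem isMonHom_of_jT [Monoid M] [GrpObj G] [GrpObj H] (hG : ∀ (m n : M) (T : Over S), jT e m T * jT e n T = jT e (m * n) T)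
    (ψ : G ⟶ H)
    (h : ∀ (m n : M) (T : Over S), (jT e m T ≫ ψ) * (jT e n T ≫ ψ) = jT e (m * n) T ≫ ψ) : IsMonHom ψ := by
  have hmul : μ[G] ≫ ψ = (ψ ⊗ₘ ψ) ≫ μ[H] := by
    apply hom_ext₂ e e
    intro m n T
    rw [← Category.assoc, ← Hom.mul_def, hG, lift_map_assoc, ← Hom.mul_def, h]
  refine ⟨?_, hmul⟩
  have h1 : (1 : 𝟙_ (Over S) ⟶ G) = η := by
    rw [Hom.one_def, toUnit_unique (toUnit _) (𝟙 _), Category.id_comp]
  have h1' : (1 : 𝟙_ (Over S) ⟶ H) = η := by
    rw [Hom.one_def, toUnit_unique (toUnit _) (𝟙 _), Category.id_comp]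
  have hx : (η ≫ ψ) * (η ≫ ψ) = (η ≫ ψ) * 1 := by
    rw [_root_.mul_one, Hom.mul_def, ← lift_map_assoc, ← hmul, ← Category.assoc, ← Hom.mul_def, ← h1, _root_.mul_one]
  rw [← h1']
  exact mul_left_cancel hx

section exist

variable (S) (M)

/-- the morphism `X ⊗ X ⟶ X`, `X = M_S`, attached to a binary operation -/
noncomputable def bin (μ₀ : M → M → M) : const S M ⊗ const S M ⟶ const S M :=
  (existsUnique_hom (Iso.refl (const S M)) (const S M) (const S M) fun m => constMap S (μ₀ m)).choose

theorem ptT_constMap {M : Type v} [Small.{u} M] {N : Type w} [Small.{u} N] (φ : M → N) (m : M) (T : Over S) :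
    ptT M m T ≫ constMap S φ = ptT N (φ m) T := by
  apply Over.OverMorphism.ext
  change (T.hom ≫ Sigma.ι (fun _ : M => S) m) ≫ Sigma.desc (fun m : M => Sigma.ι (fun _ : N => S) (φ m)) = _
  rw [Category.assoc, Sigma.ι_desc]
  rfl

theorem jT_refl (m : M) (T : Over S) : jT (Iso.refl (const S M)) m T = ptT M m T := Category.comp_id _

theorem lift_bin (μ₀ : M → M → M) (m n : M) (T : Over S) :
    lift (ptT M m T) (ptT M n T) ≫ bin S M μ₀ = ptT M (μ₀ m n) T := by
  have h1 := (existsUnique_hom (Iso.refl (const S M)) (const S M) (const S M) fun m =>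
    constMap S (μ₀ m)).choose_spec.1 m
  have h2 : lift (ptT M m T) (ptT M n T) = ptT M n T ≫ jj (Iso.refl (const S M)) m (const S M) := by
    rw [comp_jj, jT_refl]
  rw [h2, Category.assoc]
  refine (congrArg (ptT M n T ≫ ·) h1).trans ?_
  exact ptT_constMap S _ _ _

/-- The constant group exists. -/
@[instance_reducible] noncomputable def grpObj [Group M] : GrpObj (const S M) where
  one := ptT M 1 _
  mul := bin S M (· * ·)
  inv := constMap S (·⁻¹)
  one_mul := by
    have h2 : (λ_ (const S M)).inv ≫ (ptT M 1 (𝟙_ (Over S)) ▷ const S M) ≫ bin S M (· * ·) = 𝟙 _ := by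
      apply hom_ext₁ (Iso.refl (const S M))
      intro m T
      have h3 : jT (Iso.refl (const S M)) m T ≫ (λ_ (const S M)).inv =
          lift (toUnit T) (ptT M m T) := by
        rw [jT_refl]
        apply CartesianMonoidalCategory.hom_ext
        · exact toUnit_unique _ _
        · rw [Category.assoc, leftUnitor_inv_snd, Category.comp_id, lift_snd]
      rw [← Category.assoc, h3, lift_whiskerRight_assoc, comp_ptT, lift_bin, _root_.one_mul, jT_refl, Category.comp_id]
    rw [Iso.inv_comp_eq, Category.comp_id] at h2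
    exact h2
  mul_one := by
    have h2 : (ρ_ (const S M)).inv ≫ (const S M ◁ ptT M 1 (𝟙_ (Over S))) ≫ bin S M (· * ·) = 𝟙 _ := by
      apply hom_ext₁ (Iso.refl (const S M))
      intro m T
      have h3 : jT (Iso.refl (const S M)) m T ≫ (ρ_ (const S M)).inv =
          lift (ptT M m T) (toUnit T) := by
        rw [jT_refl]
        apply CartesianMonoidalCategory.hom_ext
        · rw [Category.assoc, rightUnitor_inv_fst, Category.comp_id, lift_fst]
        · exact toUnit_unique _ _
      rw [← Category.assoc, h3, lift_whiskerLeft_assoc, comp_ptT, lift_bin, _root_.mul_one, jT_refl, Category.comp_id]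
    rw [Iso.inv_comp_eq, Category.comp_id] at h2
    exact h2
  mul_assoc := by
    apply hom_ext₃ (Iso.refl (const S M)) (Iso.refl (const S M)) (Iso.refl (const S M))
    intro m n q T
    rw [jT_refl, jT_refl, jT_refl, lift_whiskerRight_assoc, lift_bin, lift_bin, lift_lift_associator_hom_assoc,
      lift_whiskerLeft_assoc, lift_bin, lift_bin, _root_.mul_assoc]
  left_inv := by
    apply hom_ext₁ (Iso.refl (const S M))
    intro m T
    rw [jT_refl, comp_lift_assoc, ptT_constMap, Category.comp_id, lift_bin, inv_mul_cancel, ← Category.assoc, comp_ptT]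
  right_inv := by
    apply hom_ext₁ (Iso.refl (const S M))
    intro m T
    rw [jT_refl, comp_lift_assoc, ptT_constMap, Category.comp_id, lift_bin, mul_inv_cancel, ← Category.assoc, comp_ptT]

/-- The constant group exists for every `M`. -/
theorem exists_const [Group M] : ∃ (G : Over S) (_ : GrpObj G) (e : G ≅ const S M), IsConstGrp M G e := by
  refine ⟨const S M, grpObj S M, Iso.refl _, fun m n => ?_⟩
  let := grpObj S M
  rw [Iso.refl_inv, Category.comp_id, Category.comp_id, Category.comp_id, Hom.mul_def, ← ptT_unit, ← ptT_unit,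
    ← ptT_unit]
  exact lift_bin S M (· * ·) m n _

end exist

section hm

variable {M₁ : Type v₁} [Small.{u} M₁] {M₂ : Type v₂} [Small.{u} M₂] {G₁ G₂ : Over S} (e₁ : G₁ ≅ const S M₁) (e₂ : G₂ ≅ const S M₂)

/-- The morphism of constant groups attached to a map. -/
noncomputable def hm (φ : M → N) : G ⟶ H := e.hom ≫ constMap S φ ≫ e'.inv

theorem jT_hm (φ : M → N) (m : M) (T : Over S) : jT e m T ≫ hm e e' φ = jT e' (φ m) T := by
  rw [jT, hm, Category.assoc, Iso.inv_hom_id_assoc, ← Category.assoc, ptT_constMap, jT]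

theorem isMonHom_hm [Group M] [Group N] [GrpObj G] [GrpObj H] (he : IsConstGrp M G e) (he' : IsConstGrp N H e')
    (φ : M →* N) : IsMonHom (hm e e' φ) := by
  apply isMonHom_of_jT e (jT_mul e he)
  intro m n T
  rw [jT_hm, jT_hm, jT_hm, jT_mul e' he', map_mul]

theorem isIso_lift (φ₁ : M → M₁) (φ₂ : M → M₂) (hφ : Function.Bijective fun m => (φ₁ m, φ₂ m)) :
    IsIso (lift (hm e e₁ φ₁) (hm e e₂ φ₂)) := by
  let ψ : M₁ × M₂ ≃ M := (Equiv.ofBijective _ hφ).symm
  have hψ : ∀ m, ψ (φ₁ m, φ₂ m) = m := fun m => (Equiv.ofBijective _ hφ).symm_apply_apply m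
  have hψ' : ∀ p, (φ₁ (ψ p), φ₂ (ψ p)) = p := fun p => (Equiv.ofBijective _ hφ).apply_symm_apply p
  obtain ⟨κ, hκ, -⟩ := existsUnique_hom e₁ G₂ G fun m₁ => hm e₂ e fun m₂ => ψ (m₁, m₂)
  have hκ' : ∀ m₁ m₂ T, lift (jT e₁ m₁ T) (jT e₂ m₂ T) ≫ κ = jT e (ψ (m₁, m₂)) T := by
    intro m₁ m₂ T
    rw [← comp_jj, Category.assoc, hκ, jT_hm]
  refine ⟨κ, ?_, ?_⟩
  · apply hom_ext₁ e
    intro m T
    rw [comp_lift_assoc, jT_hm, jT_hm, hκ', hψ, Category.comp_id]
  · apply hom_ext₂ e₁ e₂
    intro m₁ m₂ T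
    rw [← Category.assoc, hκ', comp_lift, jT_hm, jT_hm, Category.comp_id]
    have h := hψ' (m₁, m₂)
    rw [Prod.mk.injEq] at h
    rw [h.1, h.2]

end hm

section bc

variable {S' : Scheme.{u}} (f : S' ⟶ S)

/-- The base change of a constant group is the constant group. -/
noncomputable def bcE : Red.bc f G ≅ const S' M := (Over.pullback f).mapIso e ≪≫ K6.Const.bcConst M f

theorem isConstGrp_bc [Group M] [GrpObj G] (he : IsConstGrp M G e) : IsConstGrp M (Red.bc f G) (bcE e f) := by
  have key : ∀ m : M, pt S' M m ≫ (bcE e f).inv = bcEquiv f _ G (jT e m ((Over.map f).obj (𝟙_ (Over S')))) := by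
    intro m
    rw [← MulEquiv.symm_apply_eq]
    apply Over.OverMorphism.ext
    rw [bcEquiv_symm_left]
    have h1 : ((Over.pullback f).map e.inv).left ≫ pullback.fst G.hom f =
        pullback.fst (const S M).hom f ≫ e.inv.left := ActBC.pullback_map_left_fst f e.inv
    change ((pt S' M m) ≫ (K6.Const.bcConst M f).inv ≫ (Over.pullback f).map e.inv).left ≫ pullback.fst G.hom f = _
    rw [← Category.assoc, Over.comp_left, Category.assoc, h1, ← Category.assoc, K6.Const.pt_bcConst_inv, jT,
      Over.comp_left, Category.assoc]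
    change f ≫ (pt S M m).left ≫ e.inv.left = (((Over.map f).obj (𝟙_ (Over S'))).hom ≫ (pt S M m).left) ≫ e.inv.left
    have h2 : ((Over.map f).obj (𝟙_ (Over S'))).hom = f := Category.id_comp f
    rw [h2, Category.assoc]
  intro m n
  rw [key, key, key, ← map_mul, jT_mul e he]

end bc

end K85.ConstGrp
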