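import Groth.Agent.MultTori.K85.ProdTors
import Groth.Agent.MultTori.K85.ConstMT
import Groth.Agent.S14276
import Mathlib.NumberTheory.Cyclotomic.Gal
import Mathlib.RingTheory.ZMod.UnitsCyclic

/-!
# Lifting classes of torsors under constant groups: reduction to prime powers, cyclotomic splitting fields
-/

set_option autoImplicit false

universe u v w

open CategoryTheory MonoidalCategory CartesianMonoidalCategory MonObj GrpObj AlgebraicGeometry Limits

namespace K85.ConstLift

open TwC K85.ProdTors K85.ConstGrp K85.ConstMT NonAbH1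

open scoped K185

/-- For a smooth group, fppf torsors are étale torsors. -/
theorem lift_etale {S : Scheme.{u}} {I : Type w} {T : I → Scheme.{u}} (f : ∀ i, T i ⟶ S) {G : Over S} [GrpObj G]
    [Smooth G.hom] (h : Lift Scheme.fppfPrecoverage f G) : Lift Scheme.etalePrecoverage f G := by
  intro c
  choose P hP using fun i => K551.H1Cl.exists_cl (c i)
  have hle := K185.etalePrecoverage_le_fppfPrecoverage.{u}
  let P' : ∀ i, TorsorSch (Red.bc (f i) G) Scheme.fppfPrecoverage := fun i =>
    ⟨(P i).X, (P i).act, (P i).isTorsor.1, by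
      obtain ⟨R, hR, h1⟩ := (P i).isTorsor.2
      exact ⟨R, hle _ hR, h1⟩⟩
  obtain ⟨x, hx⟩ := h fun i => (P' i).cl
  obtain ⟨X, rfl⟩ := K551.H1Cl.exists_cl x
  refine ⟨TorsorSch.cl ⟨X.X, X.act, X.isTorsor.1, Groth.Agent.S14276.result G X.X X.act X.isTorsor⟩, fun i => ?_⟩
  obtain ⟨e⟩ := (K551.H1Cl.cl_eq_iff _ _).1 ((TorsorSch.cl_bc (f i) X).trans (hx i))
  rw [← hP i, ← TorsorSch.cl_bc, K551.H1Cl.cl_eq_iff]
  exact ⟨e⟩

section decomp

variable {S : Scheme.{u}} {I : Type w} {T : I → Scheme.{u}} (f : ∀ i, T i ⟶ S)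

/-- `Lift` for all constant groups with group `C`. -/
def LC (C : Type u) [CommGroup C] [Finite C] : Prop :=
  ∀ (G : Over S) [GrpObj G] (e : G ≅ const S C) (_ : IsConstGrp C G e), Lift Scheme.etalePrecoverage f G

theorem lc_prod {C C₁ C₂ : Type u} [CommGroup C] [Finite C] [CommGroup C₁] [Finite C₁] [CommGroup C₂] [Finite C₂]
    (φ₁ : C →* C₁) (φ₂ : C →* C₂) (hφ : Function.Bijective fun m => (φ₁ m, φ₂ m)) (h₁ : LC f C₁) (h₂ : LC f C₂) :
    LC f C := by
  intro G _ e he
  obtain ⟨G₁, _, e₁, he₁⟩ := exists_const S C₁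
  obtain ⟨G₂, _, e₂, he₂⟩ := exists_const S C₂
  have := isMonHom_hm e e₁ he he₁ φ₁
  have := isMonHom_hm e e₂ he he₂ φ₂
  have haff : ∀ {G' : Over S} (C' : Type u) [Finite C'] (e' : G' ≅ const S C'), IsAffineHom G'.hom := by
    intro G' C' _ e'
    have h1 : IsFinite (const S C').hom := K6.ConstAff.isFinite_const S C'
    have h2 : IsIso e'.hom.left := inferInstanceAs (IsIso ((Over.forget S).map e'.hom))
    have h3 : IsFinite (e'.hom.left ≫ (const S C').hom) := inferInstance
    rw [Over.w e'.hom] at h3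
    infer_instance
  have := haff C₁ e₁
  have := haff C₂ e₂
  exact lift_prod (K185.etalePrecoverage_le_fppfPrecoverage.trans Scheme.fppfPrecoverage_le_fpqcPrecoverage) f
    (hm e e₁ φ₁) (hm e e₂ φ₂) (isIso_lift e e₁ e₂ φ₁ φ₂ hφ) (h₁ G₁ e₁ he₁) (h₂ G₂ e₂ he₂)

theorem bijective_pow {C : Type u} [CommGroup C] {a b : ℕ} (hab : Nat.Coprime a b) (h : ∀ x : C, x ^ (a * b) = 1) :
    Function.Bijective fun m : C => ((powMonoidHom b : C →* C).rangeRestrict m, (powMonoidHom a : C →* C).rangeRestrict m) := by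
  obtain ⟨s, t, hst⟩ : ∃ s t : ℤ, s * a + t * b = 1 := by
    have h1 := Nat.gcd_eq_gcd_ab a b
    rw [Nat.Coprime.gcd_eq_one hab] at h1
    refine ⟨a.gcdA b, a.gcdB b, ?_⟩
    rw [mul_comm, mul_comm (a.gcdB b)]
    exact_mod_cast h1.symm
  have hz : ∀ x : C, x ^ ((a : ℤ) * b) = 1 := fun x => by exact_mod_cast h x
  constructor
  · intro x y hxy
    rw [Prod.mk.injEq] at hxy
    have h1 : x ^ b = y ^ b := congrArg Subtype.val hxy.1
    have h2 : x ^ a = y ^ a := congrArg Subtype.val hxy.2
    have key : ∀ z : C, z = (z ^ a) ^ s * (z ^ b) ^ t := by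
      intro z
      rw [← zpow_natCast, ← zpow_natCast, ← zpow_mul, ← zpow_mul, ← zpow_add, mul_comm (a : ℤ), mul_comm (b : ℤ), hst,
        zpow_one]
    rw [key x, key y, h1, h2]
  · rintro ⟨⟨_, u, rfl⟩, ⟨_, v, rfl⟩⟩
    refine ⟨u ^ (t * b) * v ^ (s * a), ?_⟩
    have h1 : (u ^ (t * b) * v ^ (s * a)) ^ b = u ^ b := by
      rw [mul_pow, ← zpow_natCast, ← zpow_natCast, ← zpow_mul, ← zpow_mul]
      have h3 : v ^ (s * a * b) = 1 := by
        rw [_root_.mul_assoc, mul_comm, zpow_mul, hz, one_zpow]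
      have h4 : t * b * (b : ℤ) = b + (a * b) * (-s) := by linear_combination (b : ℤ) * hst
      rw [h3, _root_.mul_one, h4, zpow_add, zpow_mul, hz, one_zpow, _root_.mul_one, zpow_natCast]
    have h2 : (u ^ (t * b) * v ^ (s * a)) ^ a = v ^ a := by
      rw [mul_pow, ← zpow_natCast, ← zpow_natCast, ← zpow_mul, ← zpow_mul]
      have h3 : u ^ (t * b * a) = 1 := by
        rw [_root_.mul_assoc, mul_comm (b : ℤ), mul_comm, zpow_mul, hz, one_zpow]
      have h4 : s * a * (a : ℤ) = a + (a * b) * (-t) := by linear_combination (a : ℤ) * hst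
      rw [h3, _root_.one_mul, h4, zpow_add, zpow_mul, hz, one_zpow, _root_.mul_one, zpow_natCast]
    exact Prod.ext (Subtype.ext h1) (Subtype.ext h2)

/-- **Reduction to prime powers.** -/
theorem lc_of_base (Good : ℕ → Prop) (hG1 : Good 1)
    (base : ∀ (C : Type u) [CommGroup C] [Finite C] (N : ℕ) [NeZero N], Good N → (∀ x : C, x ^ N = 1) → LC f C) (n : ℕ) :
    n ≠ 0 → (∀ p : ℕ, p.Prime → Good (p ^ n.factorization p)) →
      ∀ (C : Type u) [CommGroup C] [Finite C], (∀ x : C, x ^ n = 1) → LC f C := by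
  induction n using Nat.recOnPosPrimePosCoprime with
  | prime_pow p a hp ha =>
    intro h0 hgood C _ _ hC
    have : NeZero (p ^ a) := ⟨h0⟩
    refine base C (p ^ a) ?_ hC
    have h1 := hgood p hp
    rwa [hp.factorization_pow, Finsupp.single_eq_same] at h1
  | zero => exact fun h0 => absurd rfl h0
  | one =>
    intro _ _ C _ _ hC
    exact base C 1 hG1 hC
  | coprime a b ha hb hab iha ihb =>
    intro h0 hgood C _ _ hC
    have ha0 : a ≠ 0 := by omega
    have hb0 : b ≠ 0 := by omega
    have hfac : ∀ p, (a * b).factorization p = a.factorization p + b.factorization p := fun p => by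
      rw [Nat.factorization_mul ha0 hb0]
      rfl
    have hcop : ∀ p : ℕ, p.Prime → a.factorization p = 0 ∨ b.factorization p = 0 := by
      intro p hp
      by_contra h
      push Not at h
      have h1 : p ∣ a := Nat.dvd_of_factorization_pos h.1
      have h2 : p ∣ b := Nat.dvd_of_factorization_pos h.2
      exact hp.one_lt.ne' (Nat.eq_one_of_dvd_coprimes hab h1 h2)
    have hga : ∀ p : ℕ, p.Prime → Good (p ^ a.factorization p) := by
      intro p hp
      rcases hcop p hp with h | h
      · rw [h, pow_zero]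
        exact hG1
      · have h2 := hgood p hp
        rwa [hfac, h, add_zero] at h2
    have hgb : ∀ p : ℕ, p.Prime → Good (p ^ b.factorization p) := by
      intro p hp
      rcases hcop p hp with h | h
      · have h2 := hgood p hp
        rwa [hfac, h, zero_add] at h2
      · rw [h, pow_zero]
        exact hG1
    refine lc_prod f (powMonoidHom b : C →* C).rangeRestrict (powMonoidHom a : C →* C).rangeRestrict
      (bijective_pow hab hC) (iha ha0 hga _ ?_) (ihb hb0 hgb _ ?_)
    · rintro ⟨_, x, rfl⟩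
      apply Subtype.ext
      change (x ^ b) ^ a = 1
      rw [← pow_mul, mul_comm, hC]
    · rintro ⟨_, x, rfl⟩
      apply Subtype.ext
      change (x ^ a) ^ b = 1
      rw [← pow_mul, hC]

end decomp

section cyclo

variable (κ : Type v) [Field κ] (N : ℕ)

/-- `N` is invertible in `κ` and the field generated by the `N`-th roots of unity is cyclic over `κ`. -/
def Good : Prop := (N : κ) ≠ 0 ∧ IsCyclic (CyclotomicField N κ ≃ₐ[κ] CyclotomicField N κ)

theorem isCyclic_of_zmod (hN : (N : κ) ≠ 0) (h : IsCyclic (ZMod N)ˣ) :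
    IsCyclic (CyclotomicField N κ ≃ₐ[κ] CyclotomicField N κ) := by
  have h0 : NeZero N := ⟨fun h => hN (by rw [h, Nat.cast_zero])⟩
  have : NeZero (N : κ) := ⟨hN⟩
  have h1 : IsCyclotomicExtension {N} κ (CyclotomicField N κ) := inferInstance
  have hζ : IsPrimitiveRoot (IsCyclotomicExtension.zeta N κ (CyclotomicField N κ)) N :=
    IsCyclotomicExtension.zeta_spec N κ (CyclotomicField N κ)
  exact isCyclic_of_injective (hζ.autToPow κ) (hζ.autToPow_injective κ)

theorem good_one : Good κ 1 := by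
  refine ⟨by simp, isCyclic_of_zmod κ 1 (by simp) ZMod.isCyclic_units_one⟩

theorem good_odd (p : ℕ) (hp : p.Prime) (h2 : p ≠ 2) (a : ℕ) (h : ((p ^ a : ℕ) : κ) ≠ 0) : Good κ (p ^ a) :=
  ⟨h, isCyclic_of_zmod κ _ h (ZMod.isCyclic_units_of_prime_pow p hp h2 a)⟩

theorem exists_ext [NeZero N] (h : Good κ N) : ∃ (L : Type v) (_ : Field L) (_ : Algebra κ L),
    FiniteDimensional κ L ∧ IsGalois κ L ∧ (∀ (p : ℕ) [Fact p.Prime] (P : Sylow p (L ≃ₐ[κ] L)), IsCyclic P) ∧
      (N : L) ≠ 0 ∧ ∃ ζ : L, IsPrimitiveRoot ζ N := by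
  have : NeZero (N : κ) := ⟨h.1⟩
  have h1 : IsCyclotomicExtension {N} κ (CyclotomicField N κ) := inferInstance
  refine ⟨CyclotomicField N κ, inferInstance, inferInstance, IsCyclotomicExtension.finiteDimensional {N} κ _,
    IsCyclotomicExtension.isGalois {N} κ _, fun p _ P => ?_, ?_, _, IsCyclotomicExtension.zeta_spec N κ _⟩
  · have := h.2
    infer_instance
  · intro h2
    apply h.1
    apply (algebraMap κ (CyclotomicField N κ)).injective
    rw [map_natCast, h2, map_zero]

end cyclo

/-- If the exponent of `C` is invertible in all fields `κ i` and the `2`-part of the cyclotomic field is cyclic over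
`κ i`, and `Lift` holds in the prime power case, then it holds for `C`. -/
theorem lift_of_base {S : Scheme.{u}} {I : Type w} {T : I → Scheme.{u}} (f : ∀ i, T i ⟶ S) {J : Type w}
    (κ : J → Type v) [∀ i, Field (κ i)] (C : Type u) [CommGroup C] [Finite C]
    (hexp : ∀ i, IsUnit ((Monoid.exponent C : ℕ) : κ i))
    (hcyc : ∀ i, IsCyclic (CyclotomicField (2 ^ (Monoid.exponent C).factorization 2) (κ i) ≃ₐ[κ i]
      CyclotomicField (2 ^ (Monoid.exponent C).factorization 2) (κ i)))
    (base : ∀ (C : Type u) [CommGroup C] [Finite C] (N : ℕ) [NeZero N], (∀ i, Good (κ i) N) → (∀ x : C, x ^ N = 1) →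
      ∀ (G : Over S) [GrpObj G] (e : G ≅ const S C) (_ : IsConstGrp C G e), Lift Scheme.etalePrecoverage f G)
    (G : Over S) [GrpObj G] (e : G ≅ const S C) (he : IsConstGrp C G e) : Lift Scheme.etalePrecoverage f G := by
  refine lc_of_base f (fun N => ∀ i, Good (κ i) N) (fun i => good_one (κ i)) base (Monoid.exponent C)
    Monoid.exponent_ne_zero_of_finite ?_ C (fun x => Monoid.pow_exponent_eq_one x) G e he
  intro p hp i
  have h1 : ((p ^ (Monoid.exponent C).factorization p : ℕ) : κ i) ≠ 0 := by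
    intro h
    obtain ⟨k, hk⟩ := Nat.ordProj_dvd (Monoid.exponent C) p
    have h2 := (hexp i).ne_zero
    rw [hk, Nat.cast_mul, h, zero_mul] at h2
    exact h2 rfl
  by_cases h2 : p = 2
  · subst h2
    exact ⟨h1, hcyc i⟩
  · exact good_odd (κ i) p hp h2 _ h1

end K85.ConstLift
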