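import Groth.Agent.MultTori.K85.ConstLift

/-!
# Lifting torsor classes under constant groups from the statements on groups of multiplicative type

`core_residue` (semilocal rings and their residue fields), `core_completion` (fields with a discrete valuation and
their completions): the lifting statements for constant groups follow from those for isotrivial groups of
multiplicative type split by extensions with cyclic Sylow groups.
-/

set_option autoImplicit false

universe u v w

open CategoryTheory MonoidalCategory CartesianMonoidalCategory MonObj GrpObj AlgebraicGeometry Limits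

namespace K85.Core

open TwC K85.ProdTors K85.ConstGrp K85.ConstMT K85.ConstLift NonAbH1

theorem isUnit_of_quotients {A : Type u} [CommRing A] (N : ℕ)
    (h : ∀ m : MaximalSpectrum A, (N : A ⧸ m.asIdeal) ≠ 0) : IsUnit (N : A) := by
  by_contra hu
  obtain ⟨m, hm, hmem⟩ := exists_max_ideal_of_mem_nonunits hu
  apply h ⟨m, hm⟩
  change ((N : ℕ) : A ⧸ m) = 0
  rw [← map_natCast (Ideal.Quotient.mk m)]
  exact Ideal.Quotient.eq_zero_iff_mem.2 hmem

attribute [local instance] Ideal.Quotient.field

/-- Semilocal rings: constant groups, from groups of multiplicative type. -/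
theorem core_residue (A : Type u) [CommRing A]
    (H : ∀ (M : Over (Spec (CommRingCat.of A))) [GrpObj M]
      (_ : ∃ (Λ : Type) (_ : AddCommGroup Λ), AddGroup.FG Λ ∧
        TwC.Locally (Spec (CommRingCat.of A)) .finiteEtale
          (fun S' g => Nonempty (Grp.mk (Red.bc g M) ≅ Grp.mk (Red.DS S' Λ))))
      (_ : ∀ m : MaximalSpectrum A, (∃ (L : Type u) (_ : Field L) (_ : Algebra (A ⧸ m.asIdeal) L),
        FiniteDimensional (A ⧸ m.asIdeal) L ∧ IsGalois (A ⧸ m.asIdeal) L ∧
        (∀ (p : ℕ) [Fact p.Prime] (P : Sylow p (L ≃ₐ[(A ⧸ m.asIdeal)] L)), IsCyclic P) ∧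
        ∃ (Λ : Type) (_ : AddCommGroup Λ), AddGroup.FG Λ ∧
          Nonempty (Grp.mk (Red.bc (Spec.map (CommRingCat.ofHom (algebraMap (A ⧸ m.asIdeal) L)) ≫ (Spec.map (CommRingCat.ofHom (Ideal.Quotient.mk m.asIdeal)))) M) ≅
            Grp.mk (Red.DS (Spec (CommRingCat.of L)) Λ)))),
      Lift Scheme.fppfPrecoverage (fun m : MaximalSpectrum A => Spec.map (CommRingCat.ofHom (Ideal.Quotient.mk m.asIdeal))) M)
    (C : Type u) [CommGroup C] [Finite C]
    (C_ : Over (Spec (CommRingCat.of A))) [GrpObj C_] (e : C_ ≅ TwC.const (Spec (CommRingCat.of A)) C) (he : TwC.IsConstGrp C C_ e)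
    (hexp : ∀ m : MaximalSpectrum A, IsUnit ((Monoid.exponent C : ℕ) : (A ⧸ m.asIdeal)))
    (hcyc : ∀ m : MaximalSpectrum A, IsCyclic (CyclotomicField (2 ^ (Monoid.exponent C).factorization 2) (A ⧸ m.asIdeal) ≃ₐ[(A ⧸ m.asIdeal)] CyclotomicField (2 ^ (Monoid.exponent C).factorization 2) (A ⧸ m.asIdeal))) :
    Lift Scheme.etalePrecoverage (fun m : MaximalSpectrum A => Spec.map (CommRingCat.ofHom (Ideal.Quotient.mk m.asIdeal))) C_ := by
  refine lift_of_base _ (fun m : MaximalSpectrum A => A ⧸ m.asIdeal) C hexp hcyc ?_ C_ e he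
  intro C' _ _ N _ hgood hC' G _ e' he'
  have hNu : IsUnit (N : A) := isUnit_of_quotients N fun m => (hgood m).1
  have : Etale G.hom := K6.DualConst.etale_of_iso e'
  apply lift_etale
  apply H G (isotrivial e' he' N hC' hNu)
  intro m
  obtain ⟨L, _, _, hfin, hgal, hsyl, hNL, ζ, hζ⟩ := exists_ext (A ⧸ m.asIdeal) N (hgood m)
  refine ⟨L, inferInstance, inferInstance, hfin, hgal, hsyl, Lam C' N, inferInstance, ?_,
    split_field e' he' N hC' L hNL ζ hζ _⟩
  have : Finite (Lam C' N) := inferInstanceAs (Finite (DC C' N))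
  infer_instance

/-- One morphism of affine schemes: constant groups, from groups of multiplicative type. -/
theorem core_single (K Khat : Type u) [Field K] [Field Khat] [Algebra K Khat]
    (H : ∀ (M : Over (Spec (CommRingCat.of K))) [GrpObj M] [Smooth M.hom]
      (_ : ∃ (Λ : Type) (_ : AddCommGroup Λ), AddGroup.FG Λ ∧
        TwC.Locally (Spec (CommRingCat.of K)) .finiteEtale
          (fun S' g => Nonempty (Grp.mk (Red.bc g M) ≅ Grp.mk (Red.DS S' Λ))))
      (_ : (∃ (L : Type u) (_ : Field L) (_ : Algebra Khat L),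
        FiniteDimensional Khat L ∧ IsGalois Khat L ∧
        (∀ (p : ℕ) [Fact p.Prime] (P : Sylow p (L ≃ₐ[Khat] L)), IsCyclic P) ∧
        ∃ (Λ : Type) (_ : AddCommGroup Λ), AddGroup.FG Λ ∧
          Nonempty (Grp.mk (Red.bc (Spec.map (CommRingCat.ofHom (algebraMap Khat L)) ≫ Spec.map (CommRingCat.ofHom (algebraMap K Khat))) M) ≅
            Grp.mk (Red.DS (Spec (CommRingCat.of L)) Λ)))),
      Function.Surjective (NonAbH1.H1Sch.bcMap (Spec.map (CommRingCat.ofHom (algebraMap K Khat))) M Scheme.fppfPrecoverage))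
    (C : Type u) [CommGroup C] [Finite C]
    (C_ : Over (Spec (CommRingCat.of K))) [GrpObj C_] (e : C_ ≅ TwC.const (Spec (CommRingCat.of K)) C) (he : TwC.IsConstGrp C C_ e)
    (hexp : IsUnit ((Monoid.exponent C : ℕ) : K))
    (hcyc : IsCyclic (CyclotomicField (2 ^ (Monoid.exponent C).factorization 2) Khat ≃ₐ[Khat] CyclotomicField (2 ^ (Monoid.exponent C).factorization 2) Khat)) :
    Function.Surjective (NonAbH1.H1Sch.bcMap (Spec.map (CommRingCat.ofHom (algebraMap K Khat))) C_ Scheme.etalePrecoverage) := by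
  have hexp' : IsUnit ((Monoid.exponent C : ℕ) : Khat) := by
    have := hexp.map (algebraMap K Khat)
    rwa [map_natCast] at this
  have key : Lift Scheme.etalePrecoverage (fun _ : Unit => Spec.map (CommRingCat.ofHom (algebraMap K Khat))) C_ := by
    refine lift_of_base _ (fun _ : Unit => Khat) C (fun _ => hexp') (fun _ => hcyc) ?_ C_ e he
    intro C' _ _ N _ hgood hC' G _ e' he'
    have hNu : IsUnit (N : K) := by
      have h1 := (hgood ()).1
      rw [isUnit_iff_ne_zero]
      intro h2
      apply h1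
      rw [← map_natCast (algebraMap K Khat), h2, map_zero]
    have : Etale G.hom := K6.DualConst.etale_of_iso e'
    apply lift_etale
    intro c
    obtain ⟨x, hx⟩ := H G (isotrivial e' he' N hC' hNu) (by
      obtain ⟨L, _, _, hfin, hgal, hsyl, hNL, ζ, hζ⟩ := exists_ext Khat N (hgood ())
      refine ⟨L, inferInstance, inferInstance, hfin, hgal, hsyl, Lam C' N, inferInstance, ?_,
        split_field e' he' N hC' L hNL ζ hζ _⟩
      have : Finite (Lam C' N) := inferInstanceAs (Finite (DC C' N))
      infer_instance) (c ())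
    exact ⟨x, fun _ => hx⟩
  intro c
  obtain ⟨x, hx⟩ := key fun _ => c
  exact ⟨x, hx ()⟩

end K85.Core
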