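import Groth.Agent.MultTori.K85.DecIncl

/-!
# `p`-subgroups of the decomposition group over `K^` act through cyclic groups if the residue splitting is metacyclic

Form over `K^ ⊗[K] (K ⊗[A] B)`.
-/

set_option autoImplicit false
universe u

open CategoryTheory CategoryTheory.Limits MonoidalCategory CartesianMonoidalCategory AlgebraicGeometry
open TensorProduct IsLocalRing

namespace K85.DecKh

open K965.Gal K965.Dic K964.GalHom K964.BcPt K964.ResL K964.DictBc
open K965.Pts (sp mp)
open scoped MonObj GrpObj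

attribute [local instance] K964.DictBc.actBc K964.DictBc.commBc

variable {A B : Type u} [CommRing A] [IsLocalRing A] [CommRing B] [Algebra A B] {G : Type} [Group G] [Fintype G]
  [MulSemiringAction G B] [SMulCommClass G A B]
  {K : Type u} [Field K] [Algebra A K]
  {Ah : Type u} [CommRing Ah] [HenselianLocalRing Ah] [Algebra A Ah] [IsLocalHom (algebraMap A Ah)]
  {Kh : Type u} [Field Kh] [Algebra A Kh] [Algebra Ah Kh] [Algebra K Kh] [IsScalarTower A Ah Kh] [IsScalarTower A K Kh]
  {M : Over (Spec (CommRingCat.of A))} [GrpObj M] {Λ : Type} [AddCommGroup Λ] [DistribMulAction G Λ]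

include Ah in
theorem exists_gen (hG : IsGal A B G) (D : K965.Dict A B G M Λ)
    (hsplit : K964.Van.CycSplit (Red.bc (tb A (ResidueField A)) M))
    (s : (Kh ⊗[K] (K ⊗[A] B)) →ₐ[Kh] AlgebraicClosure Kh)
    (p : ℕ) [Fact p.Prime] (H : Subgroup (dec G s)) (hH : IsPGroup p H) :
    ∃ h₀ ∈ H, ∀ h ∈ H, ∃ n : ℕ, ∀ m : Λ, (h : G) • m = (h₀ : G) ^ n • m := by
  have := hG.ff
  have := hG.fin
  let P : B →ₐ[A] AlgebraicClosure Kh :=
    { toFun := fun b => s (1 ⊗ₜ (1 ⊗ₜ b))
      map_one' := map_one s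
      map_mul' := fun a b => by
        rw [← map_mul, Algebra.TensorProduct.tmul_mul_tmul, Algebra.TensorProduct.tmul_mul_tmul, one_mul, one_mul]
      map_zero' := by rw [tmul_zero, tmul_zero, map_zero]
      map_add' := fun a b => by rw [← map_add, tmul_add, tmul_add]
      commutes' := fun a => by
        have h1 : (1 : Kh) ⊗ₜ[K] ((1 : K) ⊗ₜ[A] (algebraMap A B a)) = algebraMap Kh _ (algebraMap A Kh a) := by
          have h2 : ((1 : K) ⊗ₜ[A] (algebraMap A B a)) = algebraMap K (K ⊗[A] B) (algebraMap A K a) := by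
            rw [Algebra.TensorProduct.algebraMap_apply, Algebra.algebraMap_eq_smul_one a, ← smul_tmul,
              Algebra.algebraMap_eq_smul_one a]
            rfl
          rw [h2, Algebra.algebraMap_eq_smul_one (algebraMap A K a), ← smul_tmul, IsScalarTower.algebraMap_apply A K Kh,
            Algebra.TensorProduct.algebraMap_apply, ← Algebra.algebraMap_eq_smul_one]
          rfl
        rw [h1, s.commutes]
        rfl }
  have hP : ∀ b, P b = s (1 ⊗ₜ (1 ⊗ₜ b)) := fun b => rfl
  obtain ⟨_, ⟨h₀, hh₀, rfl⟩, h1⟩ := K85.DecIncl.exists_gen (Ah := Ah) hG D P hsplit p (H.map (dec G s).subtype)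
    (hH.map _) (by
      rintro _ ⟨d, hd, rfl⟩
      obtain ⟨γ, hγ⟩ := K964.CycAct.exists_lift s d
      refine ⟨γ.restrictScalars Ah, fun b => ?_⟩
      have h2 := hγ (1 ⊗ₜ (1 ⊗ₜ b))
      have h3 : ((d : G) • ((1 : Kh) ⊗ₜ[K] ((1 : K) ⊗ₜ[A] b))) = 1 ⊗ₜ (1 ⊗ₜ ((d : G) • b)) := by
        rw [smul_eq, act_tmul, smul_eq, act_tmul]
      rw [h3] at h2
      exact h2)
  refine ⟨h₀, hh₀, fun h hh => ?_⟩
  exact h1 (h : G) ⟨h, hh, rfl⟩

end K85.DecKh
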