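import Groth.Agent.MultTori.K965.LiftH
import Groth.Agent.MultTori.K965.TorsRet
import Groth.Agent.MultTori.K965.SmoothTors
import Groth.Agent.MultTori.K964.CharSurj
import Groth.Agent.MultTori.K964.MDict
import Groth.Agent.MultTori.K964.SemiGal
import Groth.Agent.MultTori.K85.DecKh
import Groth.Agent.MultTori.K965.Adic
import Groth.Agent.Etbc.H222.AdicLF

/-!
# `H¹(K, M) → H¹(K̂, M)` is surjective: the form with a group-theoretic hypothesis, and the residue form
-/

set_option autoImplicit false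
universe u

open CategoryTheory CategoryTheory.Limits MonoidalCategory CartesianMonoidalCategory AlgebraicGeometry
open TensorProduct

namespace K85.CoreKh

open K965.Gal K964.UC K964.CharExt K964.AffPt K964.AffYon K964.Pt K964.TorsY K964.Cocyc K964.ExtE K964.BcPt
open K964.DictBc K964.Desc K964.LiftL K964.FreeG K964.CharLift K964.CharSurj K964.PermLift K964.SimF K964.SimP K964.Shap
open K964.Coh K964.Van K964.MDict K964.SemiGal K965.Dic K964.GalHom K964.ResL
open K965.Pts (sp mp)
open K965.ApproxChar (vv exists_decomp)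
open scoped MonObj GrpObj
open IsDedekindDomain

attribute [local instance] actBc commBc

/-- vanishing from the group-theoretic hypothesis -/
theorem vanish_gen {k C : Type u} [Field k] [CommRing C] [Algebra k C] {G : Type} [Group G] [Fintype G]
    [MulSemiringAction G C] [SMulCommClass G k C] (hG : IsGal k C G)
    {Λ : Type} [AddCommGroup Λ] [DistribMulAction G Λ]
    (hgen : ∀ (s : C →ₐ[k] AlgebraicClosure k) (p : ℕ) [Fact p.Prime] (H : Subgroup (dec G s)), IsPGroup p H →
      ∃ h₀ ∈ H, ∀ h ∈ H, ∃ n : ℕ, ∀ m : Λ, (h : G) • m = (h₀ : G) ^ n • m)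
    {F P : Type} [AddCommGroup F] [AddCommGroup P] {ρ : Representation ℤ G F} {τ : Representation ℤ G P}
    (hs : SimP (aRep G Λ) ρ τ) (hP : GLat.IsPermutation τ) : H1Z (Representation.linHom ρ (uRep G C)) := by
  have := hG.ff
  have := hG.fin
  have : Nontrivial C := (FaithfulSMul.algebraMap_injective k C).nontrivial
  obtain ⟨s⟩ := exists_hom k C
  apply shapiro' s hG
  refine vanish hs hP (dec G s) (fun p _ H' hH' => ?_) (coflasque_Lq s hG)
  obtain ⟨h₀, hh₀, h1⟩ := hgen s p H' hH'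
  refine ⟨h₀, hh₀, fun h hh => ?_⟩
  obtain ⟨n, hn⟩ := h1 h hh
  refine ⟨n, LinearMap.ext fun m => ?_⟩
  rw [← map_pow, aRep_apply, hn, aRep_apply]

section core

variable {A : Type u} [CommRing A] [IsDomain A] [IsDiscreteValuationRing A] (v : HeightOneSpectrum A)
  {K : Type u} [Field K] [Algebra A K] [IsFractionRing A K]

/-- **Core**: `H¹(K, M) → H¹(K̂, M)` is surjective if the `p`-subgroups of the decomposition groups act on the
characters through cyclic groups. -/
theorem core (M : Over (Spec (CommRingCat.of K))) [GrpObj M] [Smooth M.hom] [IsAffine M.left]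
    {B : Type u} [CommRing B] [Algebra K B] {G : Type} [Group G] [Fintype G] [MulSemiringAction G B]
    [SMulCommClass G K B] (hG : IsGal K B G) {Λ : Type} [AddCommGroup Λ] [Module.Finite ℤ Λ] [DistribMulAction G Λ]
    (D : K965.Dict K B G M Λ)
    (hgen : ∀ (s : (v.adicCompletion K ⊗[K] B) →ₐ[v.adicCompletion K] AlgebraicClosure (v.adicCompletion K))
      (p : ℕ) [Fact p.Prime] (H : Subgroup (dec G s)), IsPGroup p H →
      ∃ h₀ ∈ H, ∀ h ∈ H, ∃ n : ℕ, ∀ m : Λ, (h : G) • m = (h₀ : G) ^ n • m) :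
    Function.Surjective (NonAbH1.H1Sch.bcMap (tb K (v.adicCompletion K)) M Scheme.fppfPrecoverage) := by
  classical
  have := hG.ff
  have := hG.fin
  have := hG.et
  obtain ⟨P, _, F, _, _, _, _, _, τ, ρ, i, π, hi, hπ, hinj, hsurj, hex, hP, hF⟩ :=
    Groth.Agent.S18685.result G Λ (aRep G Λ)
  have hs : SimP (aRep G Λ) ρ τ := simP_A hF hP i hi π hπ hinj hsurj hex
  obtain ⟨m, r, hr, hm0, hmp⟩ := K965.TorsRet.exists_retr i π hinj hsurj hex
  have hm : (m : K) ≠ 0 := by
    intro h0
    obtain ⟨p, hp⟩ := CharP.exists K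
    rcases (CharP.char_is_prime_or_zero K p) with hpp | rfl
    · have : Fact p.Prime := ⟨hpp⟩
      obtain ⟨l, hl0, hl⟩ := hmp p hpp ((CharP.cast_eq_zero_iff K p m).1 h0)
      exact hl0 (K965.SmoothTors.eq_zero_of_smooth hG D p l hl)
    · exact hm0 (Nat.zero_dvd.1 ((CharP.cast_eq_zero_iff K 0 m).1 h0))
  let Kh := v.adicCompletion K
  have hv : H1Z (Representation.linHom ρ (uRep G (Kh ⊗[K] B))) :=
    vanish_gen (K964.DictBc.isGal_bc K B Kh G hG) hgen hs hP
  intro c
  obtain ⟨Z, rfl⟩ := exists_cl c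
  obtain ⟨R', _, _, hff, hfp, ⟨z⟩⟩ := exists_point Z
  have hfm : Finite (MaximalSpectrum (Kh ⊗[K] B)) := K964.SemiGal.finite_max (A := Kh)
  have hPic : Subsingleton (CommRing.Pic (Kh ⊗[K] B)) := inferInstance
  obtain ⟨e, he⟩ := K965.LiftH.exists_lift (K964.DictBc.bc D Kh) (famOf Z.isTorsor.1 z) hPic π hπ hv
  obtain ⟨pK, hpK, hpK'⟩ := exists_ker_char he
  let q : F →+ Λ := π.toAddMonoidHom
  have hiq : ∀ y, i y ∈ q.ker := fun y => by
    change π (i y) = 0
    rw [← LinearMap.mem_ker, ← hex]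
    exact ⟨y, rfl⟩
  let ik : P →+ q.ker := i.toAddMonoidHom.codRestrict q.ker hiq
  have hik : Function.Bijective ik := by
    constructor
    · intro y y' h
      exact hinj (congrArg Subtype.val h)
    · rintro ⟨x, hx⟩
      have h1 : x ∈ LinearMap.range i := by
        rw [hex, LinearMap.mem_ker]
        exact hx
      obtain ⟨y, rfl⟩ := h1
      exact ⟨y, rfl⟩
  let ke : P ≃+ q.ker := AddEquiv.ofBijective ik hik
  have hke : ∀ y, ((ke y : q.ker) : F) = i y := fun y => rfl
  let pR : P →+ Additive (Kh ⊗[K] B)ˣ := pK.comp ik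
  have hpR : ∀ g y, vv (pR (τ g y)) = act K B Kh g (vv (pR y)) := by
    intro g y
    have h1 : ik (τ g y) = ⟨ρ g (ik y), by
        change π (ρ g (i y)) = 0
        rw [← hi]
        exact hiq _⟩ := Subtype.ext (hi g y)
    change vl (pK (ik (τ g y))) = _
    rw [h1, hpK']
    rfl
  obtain ⟨p, f, hp, hf, hpf⟩ := exists_decomp v hG τ hP ρ i hi m hm r hr pR hpR
  let e' : F →+ Additive (R' ⊗[Kh] (Kh ⊗[K] B))ˣ :=
    AddMonoidHom.mk' (fun x => e x - ib Kh R' (f x)) (fun a b => by rw [map_add, map_add, map_add]; abel)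
  have he' : Lift (K964.DictBc.bc D Kh) ρ q (famOf Z.isTorsor.1 z) e' := by
    refine ⟨fun g x => ?_, fun x => ?_⟩
    · have h1 : e (ρ g x) = ua Kh (Kh ⊗[K] B) R' g (e x) := addUnits_ext (he.eqv g x)
      have h2 : f (ρ g x) = ug g (f x) := addUnits_ext (hf g x)
      change vl (e (ρ g x) - ib Kh R' (f (ρ g x))) = vl (ua Kh (Kh ⊗[K] B) R' g (e x - ib Kh R' (f x)))
      rw [h1, h2, ib_ug, map_sub]
    · have h1 := (E (K964.DictBc.bc D Kh) (famOf Z.isTorsor.1 z)).sub_mem (he.mem x)
        (ib_mem_E (K964.DictBc.bc D Kh) (famOf Z.isTorsor.1 z) (f x))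
      have h2 : ((q x : Λ), e' x) = (π.toAddMonoidHom x, e x) - ((0 : Λ), ib Kh R' (f x)) :=
        Prod.ext (sub_zero _).symm rfl
      rw [h2]
      exact h1
  let p' : q.ker →+ Additive Bˣ := p.comp ke.symm.toAddMonoidHom
  have hFfg : AddGroup.FG F := Module.Finite.iff_addGroup_fg.1 inferInstance
  obtain ⟨Y, hY⟩ := exists_lift_class hG D q hsurj hπ Kh Z z e' he' p' (by
      intro g x h
      have h1 : ke.symm ⟨ρ g x, h⟩ = τ g (ke.symm x) := by
        rw [AddEquiv.symm_apply_eq]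
        apply Subtype.ext
        rw [hke, hi, ← hke, AddEquiv.apply_symm_apply]
      change vl (p (ke.symm ⟨ρ g x, h⟩)) = g • vl (p (ke.symm x))
      rw [h1]
      exact hp g _)
    (by
      intro x
      obtain ⟨y, rfl⟩ := ke.surjective x
      change vl (e (i y) - ib Kh R' (f (i y))) = 1 ⊗ₜ (1 ⊗ₜ vl (p (ke.symm (ke y))))
      rw [AddEquiv.symm_apply_apply]
      have h1 : e (i y) = ib Kh R' (pR y) := hpK (ke y)
      have h2 : pR y = ib K Kh (p y) + f (i y) := addUnits_ext (hpf y)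
      rw [h1, h2, map_add, add_sub_cancel_right]
      rfl)
  exact ⟨Y.cl, hY⟩


end core

end K85.CoreKh
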