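import Groth.Agent.MultTori.K964.Van
import Groth.Agent.Flat2B.GINField

/-!
# Decomposition groups over a henselian extension act through the decomposition group over the residue field

`A` local with residue field `κ`, `B` Galois over `A` with group `G`, `A → Ah` local with `Ah` henselian, `Ω` a field
over `Ah`, `P : B → Ω` over `A`.  There is `s : κ ⊗[A] B →ₐ[κ] AlgebraicClosure κ` such that every `g : G` induced by an
`Ah`-automorphism of `Ω` lies in the decomposition group of `s` (`exists_s`).
`exists_gen`: consequently, if `M_κ` is split by a Galois extension with cyclic Sylow subgroups, `p`-subgroups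
of `G` consisting of such `g` act on `Λ` through cyclic groups.
-/

set_option autoImplicit false
universe u

open CategoryTheory CategoryTheory.Limits MonoidalCategory CartesianMonoidalCategory AlgebraicGeometry
open TensorProduct IsLocalRing

namespace K85.DecIncl

open K965.Gal K965.Dic K964.GalHom K964.BcPt K964.ResL K964.DictBc
open K965.Pts (sp mp)
open scoped MonObj GrpObj

attribute [local instance] K964.DictBc.actBc K964.DictBc.commBc

section alg

variable {A B : Type u} [CommRing A] [IsLocalRing A] [CommRing B] [Algebra A B] {G : Type} [Group G] [Fintype G]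
  [MulSemiringAction G B] [SMulCommClass G A B]

/-- a homomorphism to the algebraic closure with a given kernel -/
theorem exists_hom_ker {k C E : Type u} [Field k] [CommRing C] [Algebra k C] [Module.Finite k C] [Field E] [Algebra k E]
    (f : C →ₐ[k] E) : ∃ s : C →ₐ[k] AlgebraicClosure k, ∀ c, s c = 0 ↔ f c = 0 := by
  have hmax := ker_max f
  let _ : Field (C ⧸ RingHom.ker (f : C →+* E)) := Ideal.Quotient.field _
  have : Module.Finite k (C ⧸ RingHom.ker (f : C →+* E)) := Module.Finite.of_surjective
    (Ideal.Quotient.mkₐ k (RingHom.ker (f : C →+* E))).toLinearMap (Ideal.Quotient.mkₐ_surjective k _)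
  have h1 : Algebra.IsAlgebraic k (C ⧸ RingHom.ker (f : C →+* E)) := inferInstance
  let t : (C ⧸ RingHom.ker (f : C →+* E)) →ₐ[k] AlgebraicClosure k := IsAlgClosed.lift
  refine ⟨t.comp (Ideal.Quotient.mkₐ k _), fun c => ?_⟩
  change t (Ideal.Quotient.mk _ c) = 0 ↔ _
  rw [map_eq_zero_iff t (t : (C ⧸ RingHom.ker (f : C →+* E)) →+* AlgebraicClosure k).injective,
    Ideal.Quotient.eq_zero_iff_mem]
  rfl

variable {Ah : Type u} [CommRing Ah] [HenselianLocalRing Ah] [Algebra A Ah] [IsLocalHom (algebraMap A Ah)]
  {Ω : Type u} [Field Ω] [Algebra Ah Ω] [Algebra A Ω] [IsScalarTower A Ah Ω]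

omit [Fintype G] in
theorem exists_s [Module.Finite A B] (P : B →ₐ[A] Ω) :
    ∃ s : (ResidueField A) ⊗[A] B →ₐ[ResidueField A] AlgebraicClosure (ResidueField A),
      ∀ g : G, (∃ γ : Ω ≃ₐ[Ah] Ω, ∀ b, γ (P b) = P (g • b)) → g ∈ dec G s := by
  let O := integralClosure Ah Ω
  have hloc : IsLocalRing O := Groth.Agent.Flat2B.GINField.isLocalRing_integralClosure
  have hlh : IsLocalHom (algebraMap Ah O) := Groth.Agent.Flat2B.GINField.isLocalHom_integralClosure
  have hint : ∀ b : B, P b ∈ O := fun b => by
    have h1 : IsIntegral A b := Algebra.IsIntegral.isIntegral b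
    exact (h1.map P).tower_top
  let PO : B →+* O :=
    { toFun := fun b => ⟨P b, hint b⟩
      map_one' := Subtype.ext (map_one P)
      map_mul' := fun a b => Subtype.ext (map_mul P a b)
      map_zero' := Subtype.ext (map_zero P)
      map_add' := fun a b => Subtype.ext (map_add P a b) }
  let α : A →+* O := (algebraMap Ah O).comp (algebraMap A Ah)
  have hα : IsLocalHom α := RingHom.isLocalHom_comp _ _
  let _ : Algebra (ResidueField A) (ResidueField O) := (ResidueField.map α).toAlgebra
  let _ : Algebra A (ResidueField O) := ((residue O).comp α).toAlgebra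
  have : IsScalarTower A (ResidueField A) (ResidueField O) := IsScalarTower.of_algebraMap_eq fun a => rfl
  have hPα : PO.comp (algebraMap A B) = α := by
    ext a
    change P (algebraMap A B a) = algebraMap Ah Ω (algebraMap A Ah a)
    rw [P.commutes, IsScalarTower.algebraMap_apply A Ah Ω]
  let q : B →ₐ[A] ResidueField O :=
    { (residue O).comp PO with
      commutes' := fun a => congrArg (residue O) (RingHom.congr_fun hPα a) }
  let f : (ResidueField A) ⊗[A] B →ₐ[ResidueField A] ResidueField O :=
    Algebra.TensorProduct.lift (Algebra.ofId _ _) q fun _ _ => Commute.all _ _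
  have hf : ∀ (r : ResidueField A) (b : B), f (r ⊗ₜ b) = algebraMap _ _ r * residue O (PO b) := fun r b => by
    change Algebra.TensorProduct.lift (Algebra.ofId _ _) q (fun _ _ => Commute.all _ _) (r ⊗ₜ b) = _
    rw [Algebra.TensorProduct.lift_tmul]
    rfl
  obtain ⟨s, hs⟩ := exists_hom_ker f
  refine ⟨s, fun g ⟨γ, hγ⟩ => ?_⟩
  -- the automorphism of `O`
  have hγO : ∀ x : Ω, x ∈ O → γ x ∈ O := fun x hx => IsIntegral.map γ hx
  let γO : O →+* O :=
    { toFun := fun x => ⟨γ x, hγO x x.2⟩
      map_one' := Subtype.ext (map_one γ)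
      map_mul' := fun a b => Subtype.ext (map_mul γ _ _)
      map_zero' := Subtype.ext (map_zero γ)
      map_add' := fun a b => Subtype.ext (map_add γ _ _) }
  have hγs : ∀ x : Ω, x ∈ O → γ.symm x ∈ O := fun x hx => IsIntegral.map γ.symm hx
  let γO' : O →+* O :=
    { toFun := fun x => ⟨γ.symm x, hγs x x.2⟩
      map_one' := Subtype.ext (map_one γ.symm)
      map_mul' := fun a b => Subtype.ext (map_mul γ.symm _ _)
      map_zero' := Subtype.ext (map_zero γ.symm)
      map_add' := fun a b => Subtype.ext (map_add γ.symm _ _) }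
  let e : O ≃+* O := RingEquiv.ofRingHom γO γO'
    (RingHom.ext fun x => Subtype.ext (γ.apply_symm_apply _))
    (RingHom.ext fun x => Subtype.ext (γ.symm_apply_apply _))
  let eb : ResidueField O ≃+* ResidueField O := ResidueField.mapEquiv e
  have heb : ∀ x : O, eb (residue O x) = residue O (e x) := fun x => rfl
  have heα : ∀ a : A, e (α a) = α a := fun a => Subtype.ext (γ.commutes (algebraMap A Ah a))
  have hebκ : ∀ r : ResidueField A, eb (algebraMap _ _ r) = algebraMap (ResidueField A) (ResidueField O) r := by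
    intro r
    obtain ⟨a, rfl⟩ := residue_surjective r
    change eb (residue O (α a)) = residue O (α a)
    rw [heb, heα]
  have heP : ∀ b : B, e (PO b) = PO (g • b) := fun b => Subtype.ext (hγ b)
  have key : ∀ c : (ResidueField A) ⊗[A] B, f (g • c) = eb (f c) := by
    intro c
    rw [smul_eq]
    induction c using TensorProduct.induction_on with
    | zero => simp
    | tmul r b =>
      rw [act_tmul, hf, hf, map_mul, hebκ, heb, heP]
    | add x y hx hy => rw [map_add, map_add, map_add, map_add, hx, hy]
  intro c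
  rw [hs, hs, key, map_eq_zero_iff eb eb.injective]

variable {M : Over (Spec (CommRingCat.of A))} [GrpObj M] {Λ : Type} [AddCommGroup Λ] [DistribMulAction G Λ]

/-- **Cyclicity of the action of `p`-subgroups of the decomposition group, from the residue field.** -/
theorem exists_gen (hG : IsGal A B G) (D : K965.Dict A B G M Λ) (P : B →ₐ[A] Ω)
    (hsplit : K964.Van.CycSplit (Red.bc (tb A (ResidueField A)) M))
    (p : ℕ) [Fact p.Prime] (H : Subgroup G) (hH : IsPGroup p H)
    (hγ : ∀ h ∈ H, ∃ γ : Ω ≃ₐ[Ah] Ω, ∀ b, γ (P b) = P (h • b)) :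
    ∃ h₀ ∈ H, ∀ h ∈ H, ∃ n : ℕ, ∀ m : Λ, h • m = h₀ ^ n • m := by
  have := hG.ff
  have := hG.fin
  obtain ⟨s, hs⟩ := exists_s (G := G) (Ah := Ah) P
  obtain ⟨L, _, _, _, _, hcyc, Λ', _, ⟨e⟩⟩ := hsplit
  let H' : Subgroup (dec G s) := H.subgroupOf (dec G s)
  have hH' : IsPGroup p H' := hH.comap_subtype
  obtain ⟨h₀, hh₀, h1⟩ := K964.CycAct.exists_gen s (isGal_bc A B (ResidueField A) G hG) (K964.DictBc.bc D _) e p
    (hcyc p) H' hH'
  refine ⟨h₀, hh₀, fun h hh => ?_⟩
  obtain ⟨n, hn⟩ := h1 ⟨h, hs h (hγ h hh)⟩ hh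
  exact ⟨n, hn⟩

end alg

end K85.DecIncl
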