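import Groth.Agent.NonAbH1.K551.H1Cl
import Groth.Agent.GrpQ.K185.Inst
import Groth.Agent.S14276
import Groth.Prelude.Def_ActBC

/-!
# Étale and fppf torsor classes under a smooth group

* `toFppf : H1Sch G etale → H1Sch G fppf`, compatible with base change (`toFppf_bcMap`), injective for every `G`,
  bijective for `G` smooth (`toFppf_bijective`);
* `surjective_bcMap_iff`: for `G` smooth, surjectivity of the base change map for the two topologies is equivalent.
-/

set_option autoImplicit false

universe u

open CategoryTheory MonoidalCategory CartesianMonoidalCategory MonObj GrpObj AlgebraicGeometry Limits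

namespace K85.EtFppf

open NonAbH1

variable {S : Scheme.{u}} {G : Over S} [GrpObj G]

/-- an étale torsor as an fppf torsor -/
def ofEt (P : TorsorSch G Scheme.etalePrecoverage) : TorsorSch G Scheme.fppfPrecoverage :=
  ⟨P.X, P.act, P.isTorsor.1, by
    obtain ⟨R, hR, h1⟩ := P.isTorsor.2
    exact ⟨R, K185.etalePrecoverage_le_fppfPrecoverage _ hR, h1⟩⟩

/-- an fppf torsor under a smooth group as an étale torsor -/
def toEt [Smooth G.hom] (P : TorsorSch G Scheme.fppfPrecoverage) : TorsorSch G Scheme.etalePrecoverage :=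
  ⟨P.X, P.act, P.isTorsor.1, Groth.Agent.S14276.result G P.X P.act P.isTorsor⟩

variable (G) in
/-- the comparison map -/
def toFppf : H1Sch G Scheme.etalePrecoverage → H1Sch G Scheme.fppfPrecoverage :=
  Quot.map ofEt fun _ _ h => h

theorem toFppf_cl (P : TorsorSch G Scheme.etalePrecoverage) : toFppf G P.cl = (ofEt P).cl := rfl

theorem toFppf_injective : Function.Injective (toFppf G) := by
  intro x y h
  obtain ⟨P, rfl⟩ := K551.H1Cl.exists_cl x
  obtain ⟨Q, rfl⟩ := K551.H1Cl.exists_cl y
  rw [toFppf_cl, toFppf_cl, K551.H1Cl.cl_eq_iff] at h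
  rw [K551.H1Cl.cl_eq_iff]
  exact h

theorem toFppf_bijective [Smooth G.hom] : Function.Bijective (toFppf G) := by
  refine ⟨toFppf_injective, fun x => ?_⟩
  obtain ⟨P, rfl⟩ := K551.H1Cl.exists_cl x
  exact ⟨(toEt P).cl, rfl⟩

theorem toFppf_bcMap {S' : Scheme.{u}} (f : S' ⟶ S) (x : H1Sch G Scheme.etalePrecoverage) :
    toFppf (Red.bc f G) (H1Sch.bcMap f G Scheme.etalePrecoverage x) =
      H1Sch.bcMap f G Scheme.fppfPrecoverage (toFppf G x) := by
  obtain ⟨P, rfl⟩ := K551.H1Cl.exists_cl x
  rfl

omit [GrpObj G] in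
theorem smooth_bc {S' : Scheme.{u}} (f : S' ⟶ S) [h : Smooth G.hom] : Smooth (Red.bc f G).hom :=
  MorphismProperty.pullback_snd (P := @Smooth) G.hom f h

/-- For a smooth group, surjectivity on étale classes is surjectivity on fppf classes. -/
theorem surjective_bcMap_iff {S' : Scheme.{u}} (f : S' ⟶ S) [Smooth G.hom] :
    Function.Surjective (H1Sch.bcMap f G Scheme.etalePrecoverage) ↔
      Function.Surjective (H1Sch.bcMap f G Scheme.fppfPrecoverage) := by
  have := smooth_bc (G := G) f
  constructor
  · intro h y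
    obtain ⟨y', rfl⟩ := toFppf_bijective.2 y
    obtain ⟨x, rfl⟩ := h y'
    exact ⟨toFppf G x, (toFppf_bcMap f x).symm⟩
  · intro h y
    obtain ⟨x, hx⟩ := h (toFppf _ y)
    obtain ⟨x', rfl⟩ := toFppf_bijective.2 x
    refine ⟨x', toFppf_injective ?_⟩
    rw [toFppf_bcMap, hx]

/-- For a smooth group, injectivity on étale classes is injectivity on fppf classes. -/
theorem injective_bcMap_iff {S' : Scheme.{u}} (f : S' ⟶ S) [Smooth G.hom] :
    Function.Injective (H1Sch.bcMap f G Scheme.etalePrecoverage) ↔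
      Function.Injective (H1Sch.bcMap f G Scheme.fppfPrecoverage) := by
  constructor
  · intro h x y hxy
    obtain ⟨x', rfl⟩ := toFppf_bijective.2 x
    obtain ⟨y', rfl⟩ := toFppf_bijective.2 y
    rw [← toFppf_bcMap, ← toFppf_bcMap] at hxy
    rw [h (toFppf_injective hxy)]
  · intro h x y hxy
    apply toFppf_injective
    apply h
    rw [← toFppf_bcMap, ← toFppf_bcMap, hxy]

end K85.EtFppf
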