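import Groth.Agent.MultTori.K85.Core

/-!
# `Lift` only depends on the isomorphism class of the group; the case of discrete valuation rings
-/

set_option autoImplicit false

universe u v w

open CategoryTheory MonoidalCategory CartesianMonoidalCategory MonObj GrpObj AlgebraicGeometry Limits

namespace K85.LiftIso

open AlgGrp TwC K85.ProdTors K85.ConstGrp K85.ConstMT K85.ConstLift NonAbH1 K964.Pt

theorem pseudo_restrict {S : Scheme.{u}} {G G' X : Over S} [GrpObj G] [GrpObj G'] (v : G ⟶ G') [IsMonHom v]
    [IsIso v] (a : Action G' X) (ha : IsPseudoTorsorSch a) : IsPseudoTorsorSch (a.restrict v) := by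
  apply K826.Tors.pseudo_of_existsUnique
  intro T x y
  have key : ∀ g : T ⟶ G, lift g x ≫ (a.restrict v).act = y ↔ g ≫ v = df ha x y := by
    intro g
    rw [Action.lift_restrict_act]
    constructor
    · intro h
      exact eq_df ha (g := g ≫ v) h
    · intro h
      rw [h]
      exact sm_df ha x y
  refine ⟨df ha x y ≫ inv v, ?_, ?_⟩
  · change lift _ x ≫ _ = y
    rw [key, Category.assoc, IsIso.inv_hom_id, Category.comp_id]
  · intro g hg
    rw [← (key g).1 hg, Category.assoc, IsIso.hom_inv_id, Category.comp_id]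

theorem lift_iso {S : Scheme.{u}} {K : Precoverage Scheme.{u}} [K.IsStableUnderBaseChange]
    (hK : K ≤ Scheme.fpqcPrecoverage)
    {I : Type w} {T : I → Scheme.{u}} (f : ∀ i, T i ⟶ S) {G G' : Over S} [GrpObj G] [GrpObj G']
    [IsAffineHom G'.hom] (v : G ⟶ G') [IsMonHom v] [IsIso v] (h : Lift K f G') : Lift K f G := by
  intro c
  choose P hP using fun i => K551.H1Cl.exists_cl (c i)
  have haff : ∀ i, IsAffineHom (Red.bc (f i) G').hom := fun i => isAffineHom_bc (f i) G'
  choose E q hq using fun i => exists_push hK ((Over.pullback (f i)).map v) (P i)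
  obtain ⟨x, hx⟩ := h fun i => (E i).cl
  obtain ⟨X, rfl⟩ := K551.H1Cl.exists_cl x
  refine ⟨TorsorSch.cl ⟨X.X, X.act.restrict v, pseudo_restrict v X.act X.isTorsor.1, X.isTorsor.2⟩, fun i => ?_⟩
  rw [← hP i, ← TorsorSch.cl_bc]
  symm
  rw [K551.H1Cl.cl_eq_iff]
  obtain ⟨e⟩ := (K551.H1Cl.cl_eq_iff _ _).1 ((TorsorSch.cl_bc (f i) X).trans (hx i)).symm
  refine exists_equivIso_of_hom hK (P i).isTorsor.1
    (isPseudoTorsorSch_bc (f i) (pseudo_restrict v X.act X.isTorsor.1)) (P i).isTorsor.2 (q i ≫ e.iso.hom) ?_
  change Action.IsEquivariant (P i).act ((X.act.restrict v).bc (f i)) (q i ≫ e.iso.hom)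
  rw [Action.bc_restrict]
  exact IsEquivariant.comp (hq i) (restrict_comm ((Over.pullback (f i)).map v) e)

/-- Constant groups over the fraction field of a discrete valuation ring, with hypotheses on the residue field. -/
theorem core_dvr (A : Type u) [CommRing A] [IsDomain A] [IsDiscreteValuationRing A] (Khat : Type u) [Field Khat]
    [Algebra (FractionRing A) Khat]
    (H : ∀ (M : Over (Spec (CommRingCat.of A))) [GrpObj M]
      (_ : ∃ (Λ : Type) (_ : AddCommGroup Λ), AddGroup.FG Λ ∧
        TwC.Locally (Spec (CommRingCat.of A)) .finiteEtale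
          (fun S' g => Nonempty (Grp.mk (Red.bc g M) ≅ Grp.mk (Red.DS S' Λ))))
      (_ : (∃ (L : Type u) (_ : Field L) (_ : Algebra (IsLocalRing.ResidueField A) L),
        FiniteDimensional (IsLocalRing.ResidueField A) L ∧ IsGalois (IsLocalRing.ResidueField A) L ∧
        (∀ (p : ℕ) [Fact p.Prime] (P : Sylow p (L ≃ₐ[(IsLocalRing.ResidueField A)] L)), IsCyclic P) ∧
        ∃ (Λ : Type) (_ : AddCommGroup Λ), AddGroup.FG Λ ∧
          Nonempty (Grp.mk (Red.bc (Spec.map (CommRingCat.ofHom (algebraMap (IsLocalRing.ResidueField A) L)) ≫ (Spec.map (CommRingCat.ofHom (IsLocalRing.residue A)))) M) ≅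
            Grp.mk (Red.DS (Spec (CommRingCat.of L)) Λ))))
      [Smooth (Red.bc (Spec.map (CommRingCat.ofHom (algebraMap A (FractionRing A)))) M).hom],
      Function.Surjective
        (NonAbH1.H1Sch.bcMap (Spec.map (CommRingCat.ofHom (algebraMap (FractionRing A) Khat))) (Red.bc (Spec.map (CommRingCat.ofHom (algebraMap A (FractionRing A)))) M) Scheme.fppfPrecoverage))
    (C : Type u) [CommGroup C] [Finite C]
    (C_ : Over (Spec (CommRingCat.of (FractionRing A)))) [GrpObj C_] (e : C_ ≅ TwC.const (Spec (CommRingCat.of (FractionRing A))) C) (he : TwC.IsConstGrp C C_ e)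
    (hexp : IsUnit ((Monoid.exponent C : ℕ) : (IsLocalRing.ResidueField A)))
    (hcyc : IsCyclic (CyclotomicField (2 ^ (Monoid.exponent C).factorization 2) (IsLocalRing.ResidueField A) ≃ₐ[(IsLocalRing.ResidueField A)] CyclotomicField (2 ^ (Monoid.exponent C).factorization 2) (IsLocalRing.ResidueField A))) :
    Function.Surjective (NonAbH1.H1Sch.bcMap (Spec.map (CommRingCat.ofHom (algebraMap (FractionRing A) Khat))) C_ Scheme.etalePrecoverage) := by
  let j : Spec (CommRingCat.of (FractionRing A)) ⟶ Spec (CommRingCat.of A) :=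
    Spec.map (CommRingCat.ofHom (algebraMap A (FractionRing A)))
  have key : Lift Scheme.etalePrecoverage
      (fun _ : Unit => Spec.map (CommRingCat.ofHom (algebraMap (FractionRing A) Khat))) C_ := by
    refine lift_of_base _ (fun _ : Unit => IsLocalRing.ResidueField A) C (fun _ => hexp) (fun _ => hcyc) ?_ C_ e he
    intro C' _ _ N _ hgood hC' G _ e' he'
    have hNu : IsUnit (N : A) := by
      by_contra h
      apply (hgood ()).1
      rw [← map_natCast (IsLocalRing.residue A)]
      exact (IsLocalRing.residue_eq_zero_iff _).2 ((IsLocalRing.mem_maximalIdeal _).2 h)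
    obtain ⟨M, _, eM, heM⟩ := exists_const (Spec (CommRingCat.of A)) C'
    let eK := bcE eM j
    have heK := isConstGrp_bc eM j heM
    have het : Etale (Red.bc j M).hom := K6.DualConst.etale_of_iso eK
    have haff : IsAffineHom (Red.bc j M).hom := by
      have h1 : IsFinite (const (Spec (CommRingCat.of (FractionRing A))) C').hom := K6.ConstAff.isFinite_const _ C'
      have h2 : IsIso eK.hom.left := inferInstanceAs (IsIso ((Over.forget _).map eK.hom))
      have h3 : IsFinite (eK.hom.left ≫ (const (Spec (CommRingCat.of (FractionRing A))) C').hom) := inferInstance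
      rw [Over.w eK.hom] at h3
      infer_instance
    have hmon : IsMonHom (hm e' eK (MonoidHom.id C')) := isMonHom_hm e' eK he' heK (MonoidHom.id C')
    have hiso : IsIso (hm e' eK (MonoidHom.id C')) := by
      refine ⟨hm eK e' (MonoidHom.id C'), ?_, ?_⟩
      · apply hom_ext₁ e'
        intro m T
        rw [← Category.assoc, jT_hm, jT_hm, Category.comp_id]
        rfl
      · apply hom_ext₁ eK
        intro m T
        rw [← Category.assoc, jT_hm, jT_hm, Category.comp_id]
        rfl
    refine lift_iso (K185.etalePrecoverage_le_fppfPrecoverage.trans Scheme.fppfPrecoverage_le_fpqcPrecoverage) _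
      (hm e' eK (MonoidHom.id C')) ?_
    apply lift_etale
    intro c
    obtain ⟨x, hx⟩ := H M (isotrivial eM heM N hC' hNu) (by
      obtain ⟨L, _, _, hfin, hgal, hsyl, hNL, ζ, hζ⟩ := exists_ext (IsLocalRing.ResidueField A) N (hgood ())
      refine ⟨L, inferInstance, inferInstance, hfin, hgal, hsyl, Lam C' N, inferInstance, ?_,
        split_field eM heM N hC' L hNL ζ hζ _⟩
      have : Finite (Lam C' N) := inferInstanceAs (Finite (DC C' N))
      infer_instance) (c ())
    exact ⟨x, fun _ => hx⟩
  intro c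
  obtain ⟨x, hx⟩ := key fun _ => c
  exact ⟨x, hx ()⟩

end K85.LiftIso
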