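import Groth.Agent.MultTori.K85.CoreKh

/-!
# Residue form
-/

set_option autoImplicit false
universe u

open CategoryTheory CategoryTheory.Limits MonoidalCategory CartesianMonoidalCategory AlgebraicGeometry
open TensorProduct

namespace K85.MainRes

open K965.Gal K964.BcPt K964.DictBc K964.CharSurj K964.Van K964.MDict K964.GalHom
open K965.Pts (sp mp)
open scoped MonObj GrpObj
open IsDedekindDomain

attribute [local instance] actBc commBc

set_option maxHeartbeats 400000 in
/-- **Residue form**: `M` over the discrete valuation ring `A` whose reduction splits over an extension with cyclic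
Sylow subgroups. -/
theorem main_residue {A : Type u} [CommRing A] [IsDomain A] [IsDiscreteValuationRing A] (v : HeightOneSpectrum A)
    (K : Type u) [Field K] [Algebra A K] [IsFractionRing A K]
    (M : Over (Spec (CommRingCat.of A))) [GrpObj M]
    (hM : ∃ (Λ : Type) (_ : AddCommGroup Λ), AddGroup.FG Λ ∧
      TwC.Locally (Spec (CommRingCat.of A)) .finiteEtale
        (fun S' g => Nonempty (Grp.mk (Red.bc g M) ≅ Grp.mk (Red.DS S' Λ))))
    (hsplit : CycSplit (Red.bc (tb A (IsLocalRing.ResidueField A)) M))
    [Smooth (Red.bc (tb A K) M).hom] :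
    Function.Surjective (NonAbH1.H1Sch.bcMap (tb K (v.adicCompletion K)) (Red.bc (tb A K) M)
      Scheme.fppfPrecoverage) := by
  obtain ⟨Λ, _, hΛ, hM⟩ := hM
  have hconn : ConnectedSpace (Spec (CommRingCat.of A)) := inferInstanceAs (ConnectedSpace (PrimeSpectrum A))
  obtain ⟨B, _, _, G, _, _, _, _, _, hG, -, ⟨D⟩, haff⟩ := exists_dict M hM
  have hΛ' : Module.Finite ℤ Λ := Module.Finite.iff_addGroup_fg.2 hΛ
  have haff' : IsAffine (Red.bc (tb A K) M).left := isAffine_bc K
  have h1 : HenselianLocalRing (v.adicCompletionIntegers K) := Groth.Agent.Etbc.H222.AdicLF.henselian v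
  have h2 : IsLocalHom (algebraMap A (v.adicCompletionIntegers K)) := K965.Adic.isLocalHom v K
  exact K85.CoreKh.core v (Red.bc (tb A K) M) (K964.DictBc.isGal_bc A B K G hG) (K964.DictBc.bc D K)
    (fun s p _ H hH => K85.DecKh.exists_gen (Ah := v.adicCompletionIntegers K) hG D hsplit s p H hH)

end K85.MainRes
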