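import Groth.Agent.PrincBund.K826.PushTors
import Groth.Agent.MultTori.K964.Pt
import Groth.Agent.GIT.K690.Torsor
import Groth.Agent.NonAbH1.K551.H1Cl
import Groth.Agent.GrpQ.K185.Inst
import Groth.Prelude.Def_ActBC

/-!
# Lifting of torsor classes for a product of two groups

`K` a precoverage finer than fpqc.  `Lift K f G`: for a family `f i : T i ⟶ S` every family of classes of torsors under
the base changes `G_{T i}` comes from one class over `S`.

* `lift_prod`: if `G ≅ G₁ × G₂` with `G₁`, `G₂` affine over `S`, then `Lift` for `G₁` and `G₂` implies `Lift` for `G`;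
* `lift_of_iso`: `Lift` only depends on the group up to isomorphism.
-/

set_option autoImplicit false
universe u w

open CategoryTheory CategoryTheory.Limits MonoidalCategory CartesianMonoidalCategory MonObj GrpObj AlgebraicGeometry

namespace K85.ProdTors

open AlgGrp K964.Pt NonAbH1

variable {S : Scheme.{u}} {K : Precoverage Scheme.{u}}

theorem locTriv_tensor [K.IsStableUnderBaseChange] [K.IsStableUnderComposition] {X₁ X₂ : Over S}
    (h₁ : IsLocallyTrivialFor K X₁) (h₂ : IsLocallyTrivialFor K X₂) : IsLocallyTrivialFor K (X₁ ⊗ X₂) := by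
  have h3 : IsLocallyTrivialFor K (Over.mk (pullback.snd X₁.hom X₂.hom)) := isLocallyTrivialFor_bc X₂.hom K h₁
  have h4 : IsLocallyTrivialFor K (Over.mk (pullback.snd X₁.hom X₂.hom ≫ X₂.hom)) :=
    K690.Torsor.isLocallyTrivialFor_comp h3 h₂
  have h5 : (X₁ ⊗ X₂) = Over.mk (pullback.snd X₁.hom X₂.hom ≫ X₂.hom) := by
    change Over.mk (pullback.fst X₁.hom X₂.hom ≫ X₁.hom) = _
    rw [pullback.condition]
  rw [h5]
  exact h4

/-- An equivariant morphism between pseudo-torsors is an isomorphism as soon as the source is locally trivial. -/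
theorem exists_equivIso_of_hom (hK : K ≤ Scheme.fpqcPrecoverage) {G X Y : Over S} [GrpObj G] {a : Action G X}
    {b : Action G Y} (ha : IsPseudoTorsorSch a) (hb : IsPseudoTorsorSch b) (hX : IsLocallyTrivialFor K X)
    (f : X ⟶ Y) (hf : a.act ≫ f = (G ◁ f) ≫ b.act) : Nonempty (EquivIso a b) := by
  obtain ⟨e, -⟩ := exists_equivIso hK ha hb hX (𝟙 X) f (by
    have h := df_comp ha hb f hf (fst X X) (snd X X)
    rw [h, Category.comp_id, Category.comp_id])
  exact ⟨e⟩

section prod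

variable {G G₁ G₂ : Over S} [GrpObj G] [GrpObj G₁] [GrpObj G₂] (v₁ : G ⟶ G₁) (v₂ : G ⟶ G₂) [IsMonHom v₁]
  [IsMonHom v₂] {X₁ X₂ : Over S} (a₁ : Action G₁ X₁) (a₂ : Action G₂ X₂)

theorem pseudo_prod (hv : IsIso (lift v₁ v₂)) (h₁ : IsPseudoTorsorSch a₁) (h₂ : IsPseudoTorsorSch a₂) :
    IsPseudoTorsorSch ((a₁.restrict v₁).prod (a₂.restrict v₂)) := by
  apply K826.Tors.pseudo_of_existsUnique
  intro T x y
  have hx : x = lift (x ≫ fst _ _) (x ≫ snd _ _) := by rw [← comp_lift, lift_fst_snd, Category.comp_id]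
  have hy : y = lift (y ≫ fst _ _) (y ≫ snd _ _) := by rw [← comp_lift, lift_fst_snd, Category.comp_id]
  have key : ∀ g : T ⟶ G, lift g x ≫ ((a₁.restrict v₁).prod (a₂.restrict v₂)).act = y ↔
      g ≫ lift v₁ v₂ = lift (df h₁ (x ≫ fst _ _) (y ≫ fst _ _)) (df h₂ (x ≫ snd _ _) (y ≫ snd _ _)) := by
    intro g
    rw [hx, hy, Action.lift_prod_act, Action.lift_restrict_act, Action.lift_restrict_act, comp_lift]
    simp only [lift_fst, lift_snd]
    constructor
    · intro h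
      have e1 := congrArg (· ≫ fst _ _) h
      have e2 := congrArg (· ≫ snd _ _) h
      simp only [lift_fst, lift_snd] at e1 e2
      rw [← eq_df h₁ (g := g ≫ v₁) e1, ← eq_df h₂ (g := g ≫ v₂) e2]
    · intro h
      have e1 := congrArg (· ≫ fst _ _) h
      have e2 := congrArg (· ≫ snd _ _) h
      simp only [lift_fst, lift_snd] at e1 e2
      rw [e1, e2]
      congr 1
      · exact sm_df h₁ _ _
      · exact sm_df h₂ _ _
  refine ⟨lift (df h₁ (x ≫ fst _ _) (y ≫ fst _ _)) (df h₂ (x ≫ snd _ _) (y ≫ snd _ _)) ≫ inv (lift v₁ v₂), ?_, ?_⟩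
  · change lift _ x ≫ _ = y
    rw [key, Category.assoc, IsIso.inv_hom_id, Category.comp_id]
  · intro g hg
    rw [← (key g).1 hg, Category.assoc, IsIso.hom_inv_id, Category.comp_id]

theorem equivariant_fst : Action.IsEquivariant ((a₁.restrict v₁).prod (a₂.restrict v₂)) (a₁.restrict v₁)
    (fst X₁ X₂) := by
  unfold Action.IsEquivariant
  rw [Action.prod_act, lift_fst]

theorem equivariant_snd : Action.IsEquivariant ((a₁.restrict v₁).prod (a₂.restrict v₂)) (a₂.restrict v₂)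
    (snd X₁ X₂) := by
  unfold Action.IsEquivariant
  rw [Action.prod_act, lift_snd]

end prod

/-- restriction of an equivariant isomorphism -/
theorem restrict_comm {G G' X X' : Over S} [GrpObj G] [GrpObj G'] (v : G ⟶ G') [IsMonHom v] {a : Action G' X}
    {a' : Action G' X'} (e : EquivIso a a') : Action.IsEquivariant (a.restrict v) (a'.restrict v) e.iso.hom := by
  unfold Action.IsEquivariant
  rw [Action.restrict_act, Action.restrict_act, Category.assoc, e.comm, whisker_exchange_assoc]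

theorem IsEquivariant.comp {G X Y Z : Over S} [GrpObj G] {a : Action G X} {b : Action G Y} {c : Action G Z}
    {f : X ⟶ Y} {g : Y ⟶ Z} (hf : Action.IsEquivariant a b f) (hg : Action.IsEquivariant b c g) :
    Action.IsEquivariant a c (f ≫ g) := by
  unfold Action.IsEquivariant at *
  rw [← Category.assoc, hf, Category.assoc, hg, MonoidalCategory.whiskerLeft_comp_assoc]

/-- The push forward of a torsor along a homomorphism to an affine group. -/
theorem exists_push (hK : K ≤ Scheme.fpqcPrecoverage) {G G' : Over S} [GrpObj G] [GrpObj G'] [IsAffineHom G'.hom]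
    (v : G ⟶ G') [IsMonHom v] (P : TorsorSch G K) :
    ∃ (E : TorsorSch G' K) (q : P.X ⟶ E.X), Action.IsEquivariant P.act (E.act.restrict v) q := by
  have hl : IsLocallyTrivialFor Scheme.fpqcPrecoverage P.X := by
    obtain ⟨R, hR, h⟩ := P.isTorsor.2
    exact ⟨R, hK _ hR, h⟩
  obtain ⟨E, -, ⟨r⟩⟩ := K826.PushRep.exists_rep v P.act P.isTorsor.1 hl
  refine ⟨⟨E, K826.PushTors.actE v P.act r, K826.PushTors.pseudo_actE v P.act r P.isTorsor.1 hl,
    K826.BcTors.isLocallyTrivialFor_of_hom (K826.PushTors.qE v P.act r P.isTorsor.1) P.isTorsor.2⟩,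
    K826.PushTors.qE v P.act r P.isTorsor.1, ?_⟩
  unfold Action.IsEquivariant
  rw [K826.PushTors.act_qE, Action.restrict_act, ← Category.assoc]
  congr 1
  apply CartesianMonoidalCategory.hom_ext
  · simp
  · simp

/-- `G` has the lifting property for the family of base changes `f`: every family of classes over the `T i` comes
from one class over `S`. -/
def Lift (K : Precoverage Scheme.{u}) [K.IsStableUnderBaseChange] {I : Type w} {T : I → Scheme.{u}}
    (f : ∀ i, T i ⟶ S) (G : Over S) [GrpObj G] : Prop :=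
  ∀ c : ∀ i, H1Sch (Red.bc (f i) G) K, ∃ x : H1Sch G K, ∀ i, H1Sch.bcMap (f i) G K x = c i

theorem isAffineHom_bc {T : Scheme.{u}} (f : T ⟶ S) (G : Over S) [h : IsAffineHom G.hom] :
    IsAffineHom (Red.bc f G).hom :=
  MorphismProperty.pullback_snd (P := @IsAffineHom) G.hom f h

/-- A torsor under `G_T` mapping equivariantly to `X₁` and `X₂` is the base change of `X₁ × X₂`. -/
theorem nonempty_equivIso [K.IsStableUnderBaseChange] (hK : K ≤ Scheme.fpqcPrecoverage) {T : Scheme.{u}} (f : T ⟶ S)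
    {G G₁ G₂ : Over S} [GrpObj G] [GrpObj G₁] [GrpObj G₂]
    (v₁ : G ⟶ G₁) (v₂ : G ⟶ G₂) [IsMonHom v₁] [IsMonHom v₂]
    (hv : IsIso (lift v₁ v₂)) {X₁ X₂ : Over S} (a₁ : Action G₁ X₁) (a₂ : Action G₂ X₂)
    (ha₁ : IsPseudoTorsorSch a₁) (ha₂ : IsPseudoTorsorSch a₂) {P : Over T} (a : Action (Red.bc f G) P)
    (ha : IsPseudoTorsorSch a) (hP : IsLocallyTrivialFor K P)
    (r₁ : P ⟶ (Over.pullback f).obj X₁) (r₂ : P ⟶ (Over.pullback f).obj X₂)
    (c₁ : Action.IsEquivariant a ((a₁.restrict v₁).bc f) r₁) (c₂ : Action.IsEquivariant a ((a₂.restrict v₂).bc f) r₂) :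
    Nonempty (EquivIso a (((a₁.restrict v₁).prod (a₂.restrict v₂)).bc f)) := by
  have d₁ : Action.IsEquivariant (((a₁.restrict v₁).prod (a₂.restrict v₂)).bc f) ((a₁.restrict v₁).bc f)
      ((Over.pullback f).map (fst X₁ X₂)) :=
    Action.isEquivariant_bc f (equivariant_fst v₁ v₂ a₁ a₂)
  have d₂ : Action.IsEquivariant (((a₁.restrict v₁).prod (a₂.restrict v₂)).bc f) ((a₂.restrict v₂).bc f)
      ((Over.pullback f).map (snd X₁ X₂)) :=
    Action.isEquivariant_bc f (equivariant_snd v₁ v₂ a₁ a₂)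
  let φ : P ⟶ (Over.pullback f).obj (X₁ ⊗ X₂) :=
    lift r₁ r₂ ≫ Functor.LaxMonoidal.μ (Over.pullback f) X₁ X₂
  have φ₁ : φ ≫ (Over.pullback f).map (fst X₁ X₂) = r₁ := by
    rw [Category.assoc, Functor.Monoidal.μ_fst, lift_fst]
  have φ₂ : φ ≫ (Over.pullback f).map (snd X₁ X₂) = r₂ := by
    rw [Category.assoc, Functor.Monoidal.μ_snd, lift_snd]
  have hext : ∀ {Z : Over T} (s t : Z ⟶ (Over.pullback f).obj (X₁ ⊗ X₂)),
      s ≫ (Over.pullback f).map (fst X₁ X₂) = t ≫ (Over.pullback f).map (fst X₁ X₂) →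
      s ≫ (Over.pullback f).map (snd X₁ X₂) = t ≫ (Over.pullback f).map (snd X₁ X₂) → s = t := by
    intro Z s t h1 h2
    rw [← cancel_mono (Functor.OplaxMonoidal.δ (Over.pullback f) X₁ X₂)]
    apply CartesianMonoidalCategory.hom_ext
    · simpa only [Category.assoc, Functor.OplaxMonoidal.δ_fst] using h1
    · simpa only [Category.assoc, Functor.OplaxMonoidal.δ_snd] using h2
  refine exists_equivIso_of_hom hK ha (isPseudoTorsorSch_bc f (pseudo_prod v₁ v₂ _ _ hv ha₁ ha₂)) hP φ ?_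
  unfold Action.IsEquivariant at c₁ c₂ d₁ d₂
  apply hext
  · rw [Category.assoc, φ₁, c₁, Category.assoc, d₁, ← MonoidalCategory.whiskerLeft_comp_assoc, φ₁]
  · rw [Category.assoc, φ₂, c₂, Category.assoc, d₂, ← MonoidalCategory.whiskerLeft_comp_assoc, φ₂]

theorem lift_prod [K.IsStableUnderBaseChange] [K.IsStableUnderComposition] (hK : K ≤ Scheme.fpqcPrecoverage)
    {I : Type w} {T : I → Scheme.{u}} (f : ∀ i, T i ⟶ S) {G G₁ G₂ : Over S} [GrpObj G] [GrpObj G₁] [GrpObj G₂]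
    [IsAffineHom G₁.hom] [IsAffineHom G₂.hom] (v₁ : G ⟶ G₁) (v₂ : G ⟶ G₂) [IsMonHom v₁] [IsMonHom v₂]
    (hv : IsIso (lift v₁ v₂)) (h₁ : Lift K f G₁) (h₂ : Lift K f G₂) : Lift K f G := by
  intro c
  choose P hP using fun i => K551.H1Cl.exists_cl (c i)
  have haff₁ : ∀ i, IsAffineHom (Red.bc (f i) G₁).hom := fun i => isAffineHom_bc (f i) G₁
  have haff₂ : ∀ i, IsAffineHom (Red.bc (f i) G₂).hom := fun i => isAffineHom_bc (f i) G₂
  choose E₁ q₁ hq₁ using fun i => exists_push hK ((Over.pullback (f i)).map v₁) (P i)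
  choose E₂ q₂ hq₂ using fun i => exists_push hK ((Over.pullback (f i)).map v₂) (P i)
  obtain ⟨x₁, hx₁⟩ := h₁ fun i => (E₁ i).cl
  obtain ⟨x₂, hx₂⟩ := h₂ fun i => (E₂ i).cl
  obtain ⟨X₁, rfl⟩ := K551.H1Cl.exists_cl x₁
  obtain ⟨X₂, rfl⟩ := K551.H1Cl.exists_cl x₂
  refine ⟨TorsorSch.cl ⟨X₁.X ⊗ X₂.X, (X₁.act.restrict v₁).prod (X₂.act.restrict v₂),
    pseudo_prod v₁ v₂ _ _ hv X₁.isTorsor.1 X₂.isTorsor.1, locTriv_tensor X₁.isTorsor.2 X₂.isTorsor.2⟩, fun i => ?_⟩
  rw [← hP i, ← TorsorSch.cl_bc]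
  symm
  rw [K551.H1Cl.cl_eq_iff]
  obtain ⟨e₁⟩ := (K551.H1Cl.cl_eq_iff _ _).1 ((TorsorSch.cl_bc (f i) X₁).trans (hx₁ i)).symm
  obtain ⟨e₂⟩ := (K551.H1Cl.cl_eq_iff _ _).1 ((TorsorSch.cl_bc (f i) X₂).trans (hx₂ i)).symm
  refine nonempty_equivIso hK (f i) v₁ v₂ hv X₁.act X₂.act X₁.isTorsor.1 X₂.isTorsor.1 (P i).act (P i).isTorsor.1
    (P i).isTorsor.2 (q₁ i ≫ e₁.iso.hom) (q₂ i ≫ e₂.iso.hom) ?_ ?_
  · rw [Action.bc_restrict]
    exact IsEquivariant.comp (hq₁ i) (restrict_comm ((Over.pullback (f i)).map v₁) e₁)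
  · rw [Action.bc_restrict]
    exact IsEquivariant.comp (hq₂ i) (restrict_comm ((Over.pullback (f i)).map v₂) e₂)

end K85.ProdTors
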